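import Cfsg.Agent.Lib.Bender.Suzuki.Interface
import Cfsg.Agent.Lib.RootSub.Setup2
import Mathlib.Algebra.CharP.Two
import Mathlib.Tactic.FieldSimp

/-!
# Suzuki's theorem: the coordinates pulled back to `Q`

`y` in `Q` is sent to the coordinates of the point `y (t a)`; inside `E` the Moebius coordinate is the
coordinate of `E`.  The swap satisfies the functional identity.
-/

set_option autoImplicit false
set_option linter.style.haveILetI false
set_option linter.unusedSectionVars false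

namespace CfsgLib.Bender.Suzuki

open MulAction CfsgLib.RootSub.Setup
open scoped Pointwise

variable {G Ω : Type*} [Group G] [Finite G] [MulAction G Ω] {a : Ω} {t : G} {Q E K : Subgroup G} {s r : G}
  (S : Cubic a t Q E K s r)

namespace Cubic

include S

theorem smul_mem_baseLine {e : G} (he : e ∈ E) : e • t • a ∈ baseLine a t E := Or.inr ⟨e, he, rfl⟩

theorem mem_E_of_baseLine {y : G} (hy : y ∈ Q) (hb : y • t • a ∈ baseLine a t E) : y ∈ E := by
  rcases hb with hb | ⟨e, he, hb⟩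
  · exact absurd (smul_left_cancel y (hb.trans (fix_a S.rank hy).symm)) (ta_ne S.rank)
  · obtain ⟨x, -, hx⟩ := regular S.rank (ta_ne S.rank) (show y • t • a ≠ a from fun e1 =>
      ta_ne S.rank (smul_left_cancel y (e1.trans (fix_a S.rank hy).symm)))
    have h1 := congrArg Subtype.val ((hx ⟨y, hy⟩ rfl).trans (hx ⟨e, S.base.le he⟩ hb).symm)
    exact (show y = e from h1) ▸ he

theorem not_mem_baseLine {y : G} (hy : y ∈ Q) (hyE : y ∉ E) : y • t • a ∉ baseLine a t E := fun hb =>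
  hyE (S.mem_E_of_baseLine hy hb)

theorem eq_of_point {y v : G} (hy : y ∈ Q) (hv : v ∈ Q) (h : y • t • a = v • t • a) : y = v := by
  have h1 := eq_one_of_fix S.rank (mul_mem (inv_mem hv) hy) (ta_ne S.rank)
    (show (v⁻¹ * y) • t • a = t • a by rw [mul_smul, h, inv_smul_smul])
  rw [inv_mul_eq_one] at h1
  exact h1.symm

theorem conj_point {d y : G} (hd : d ∈ pairStab a t) : (d * y * d⁻¹) • t • a = d • y • t • a := by
  have h1 : d • t • a = t • a := hd.2
  rw [mul_smul, mul_smul, inv_smul_eq_iff.2 h1.symm]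

theorem conj_memE {v e : G} (hv : v ∈ pairStab a t) (he : e ∈ E) : v * e * v⁻¹ ∈ E := by
  obtain ⟨heQ, he2⟩ := (S.mem_E e).1 he
  exact (S.mem_E _).2 ⟨S.rank.conj_mem v hv.1 e heQ, by
    rw [show v * e * v⁻¹ * (v * e * v⁻¹) = v * (e * e) * v⁻¹ by group, he2]; group⟩

/-- The swap keeps the base line. -/
theorem swap_line {e : G} (he : e ∈ E) (he1 : e ≠ 1) : ∃ e' ∈ E, t • e • t • a = e' • t • a := by
  obtain ⟨k, ⟨hk, hke⟩, -⟩ := S.base.reg e he he1
  have hkp : k ∈ pairStab a t := ((S.mem_K k).1 hk).1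
  refine ⟨k⁻¹ * r⁻¹ * k, by simpa using S.base.k_e k⁻¹ (inv_mem hk) r⁻¹ (inv_mem S.r_mem), ?_⟩
  have h1 : t * e * t = k⁻¹ * (r⁻¹ * t * r) * k := by
    rw [← S.base.rel, ← hke]
    calc t * (k * s * k⁻¹) * t = t * k * t * (t * s * t) * (t * k⁻¹ * t) := by
          rw [show t * k * t * (t * s * t) * (t * k⁻¹ * t) = t * k * (t * t) * s * (t * t) * k⁻¹ * t by
            simp only [mul_assoc], S.base.t_sq]
          simp only [mul_one, mul_assoc]
      _ = _ := by rw [S.base.inv k hk, S.base.inv k⁻¹ (inv_mem hk), inv_inv]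
  calc t • e • t • a = (t * e * t) • a := by rw [mul_smul, mul_smul]
    _ = k⁻¹ • r⁻¹ • t • r • k • a := by rw [h1]; simp only [mul_smul]
    _ = (k⁻¹ * r⁻¹ * k) • t • a := by
      rw [show k • a = a from hkp.1, fix_a S.rank (S.base.le S.r_mem)]
      simp only [mul_smul]
      rw [show k • t • a = t • a from hkp.2]

/-- The swapped element. -/
theorem exists_swap {y : G} (hy : y ∈ Q) (hyE : y ∉ E) :
    ∃ g ∈ Q, g ∉ E ∧ g • t • a = t • y • t • a := by
  have hne : t • y • t • a ≠ a := fun e => hyE <| by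
    have h1 : y • t • a = t • a := by rw [← smul_left_cancel_iff t, e, t_t S.rank]
    rw [eq_one_of_fix S.rank hy (ta_ne S.rank) h1]
    exact one_mem E
  obtain ⟨g, hg, hgp⟩ := exists_Q S.rank hne
  refine ⟨g, hg, fun hgE => hyE (S.mem_E_of_baseLine hy ?_), hgp⟩
  have h1 : y • t • a = t • g • t • a := by rw [hgp, t_t S.rank]
  rw [h1]
  rcases eq_or_ne g 1 with rfl | hg1
  · rw [one_smul, t_t S.rank]; exact Set.mem_insert _ _
  obtain ⟨e', he', h2⟩ := S.swap_line hgE hg1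
  rw [h2]
  exact S.smul_mem_baseLine he'

/-- **The functional identity, for points.** -/
theorem key_point {y : G} (hy : y ∈ Q) (hyE : y ∉ E) {g f v e : G} (hg : g ∈ Q) (hgE : g ∉ E)
    (hgp : g • t • a = t • y • t • a) (hf : f ∈ Q) (hfp : f • t • a = t • y⁻¹ • t • a) (he : e ∈ E) (he1 : e ≠ 1)
    (hv : v ∈ Q) (hvp : v • t • a = t • (f * e) • t • a) :
    y * v ∉ E ∧ ∃ e' ∈ E, t • (y * v) • t • a = (g * e') • t • a := by
  obtain ⟨e₁, he₁, hx⟩ := S.swap_line he he1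
  set h := g⁻¹ * t * y * t * f * t with hh
  have htt := S.base.t_sq
  have hd : h ∈ pairStab a t := by
    refine ⟨?_, ?_⟩
    · show h • a = a
      simp only [hh, mul_smul]
      rw [hfp, t_t S.rank, smul_inv_smul, t_t S.rank, inv_smul_eq_iff, fix_a S.rank hg]
    · show h • t • a = t • a
      simp only [hh, mul_smul]
      rw [t_t S.rank, fix_a S.rank hf, ← hgp, inv_smul_smul]
  have h1 : h • e₁ • t • a = g⁻¹ • t • (y * v) • t • a := by
    rw [← hx, mul_smul y v, hvp, mul_smul f e]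
    simp only [hh, mul_smul, t_t S.rank]
  have h2 : h • e₁ • t • a = (h * e₁ * h⁻¹) • t • a := (S.conj_point hd).symm
  have hpt : t • (y * v) • t • a = (g * (h * e₁ * h⁻¹)) • t • a := by
    rw [mul_smul g, ← h2, h1, smul_inv_smul]
  refine ⟨fun hyv => hgE ?_, _, S.conj_memE hd he₁, hpt⟩
  have hgQ : g * (h * e₁ * h⁻¹) ∈ Q := mul_mem hg (S.base.le (S.conj_memE hd he₁))
  suffices hh' : g * (h * e₁ * h⁻¹) ∈ E by
    have := mul_mem hh' (inv_mem (S.conj_memE hd he₁))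
    rwa [mul_inv_cancel_right] at this
  refine S.mem_E_of_baseLine hgQ ?_
  rw [← hpt]
  rcases eq_or_ne (y * v) 1 with e0 | e0
  · rw [e0, one_smul, t_t S.rank]; exact Set.mem_insert _ _
  obtain ⟨e', he', h3⟩ := S.swap_line hyv e0
  rw [h3]
  exact S.smul_mem_baseLine he'

end Cubic

variable {F : Type} [Field F] [CharP F 2] {C : EField E K s F} {p : ℕ} {w : G} (D : Coords a t E K s C p w)

open Classical in
/-- The Moebius coordinate on `Q`. -/
noncomputable def thetaQ (y : G) : F := if y ∈ E then C.eps y else D.θ (y • t • a)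

/-- The automorphy factor on `Q`. -/
def jQ (y : G) : F := D.J (y • t • a)

theorem thetaQ_of_mem {y : G} (hy : y ∈ E) : thetaQ D y = C.eps y := if_pos hy

theorem thetaQ_of_not_mem {y : G} (hy : y ∉ E) : thetaQ D y = D.θ (y • t • a) := if_neg hy

namespace Cubic

include S

theorem thetaQ_mul {e y : G} (he : e ∈ E) (hy : y ∈ Q) : thetaQ D (e * y) = C.eps e + thetaQ D y := by
  by_cases hyE : y ∈ E
  · rw [thetaQ_of_mem D (mul_mem he hyE), thetaQ_of_mem D hyE, C.eps_mul e he y hyE]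
  · have h1 : e * y ∉ E := fun hh => hyE (by
      have := mul_mem (inv_mem he) hh
      rwa [inv_mul_cancel_left] at this)
    rw [thetaQ_of_not_mem D h1, thetaQ_of_not_mem D hyE, mul_smul, (D.θ_E e he _ (S.not_mem_baseLine hy hyE)).1,
      add_comm]

theorem jQ_mul {e y : G} (he : e ∈ E) (hy : y ∈ Q) (hyE : y ∉ E) : jQ D (e * y) = jQ D y := by
  show D.J ((e * y) • t • a) = _
  rw [mul_smul, (D.θ_E e he _ (S.not_mem_baseLine hy hyE)).2]
  rfl

theorem jQ_ne {y : G} (hy : y ∈ Q) (hyE : y ∉ E) : jQ D y ≠ 0 := D.J_ne _ (S.not_mem_baseLine hy hyE)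

theorem jQ_inj {y v : G} (hy : y ∈ Q) (hyE : y ∉ E) (hv : v ∈ Q) (hvE : v ∉ E) (h : jQ D y = jQ D v) :
    ∃ e ∈ E, v = e * y := by
  obtain ⟨e, he, h1⟩ := D.J_inj _ (S.not_mem_baseLine hy hyE) _ (S.not_mem_baseLine hv hvE) h
  exact ⟨e, he, S.eq_of_point hv (mul_mem (S.base.le he) hy) (by rw [mul_smul]; exact h1)⟩

theorem trace {y : G} (hy : y ∈ Q) (hyE : y ∉ E) :
    (thetaQ D y + C.bar (thetaQ D y)) * (C.bar (jQ D y) * jQ D y) = D.c₀ := by
  rw [thetaQ_of_not_mem D hyE]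
  exact D.herm _ (S.not_mem_baseLine hy hyE)

theorem thetaQ_ne {y : G} (hy : y ∈ Q) (hyE : y ∉ E) : thetaQ D y ≠ 0 := fun e => D.c₀_ne (by
  rw [← S.trace D hy hyE, e, map_zero, add_zero, zero_mul])

theorem conjK {k y : G} (hk : k ∈ K) (hy : y ∈ Q) :
    thetaQ D (k * y * k⁻¹) = C.lam k ^ 2 * thetaQ D y ∧
      (y ∉ E → jQ D (k * y * k⁻¹) = jQ D y / C.lam k) := by
  have hkp : k ∈ pairStab a t := ((S.mem_K k).1 hk).1
  by_cases hyE : y ∈ E
  · exact ⟨by rw [thetaQ_of_mem D (S.base.k_e k hk y hyE), thetaQ_of_mem D hyE, C.eps_conj k hk y hyE],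
      fun h => absurd hyE h⟩
  · have h1 : k * y * k⁻¹ ∉ E := fun hh => hyE (by
      have := S.base.k_e k⁻¹ (inv_mem hk) _ hh
      simpa [mul_assoc] using this)
    obtain ⟨h2, h3⟩ := D.θ_K k hk _ (S.not_mem_baseLine hy hyE)
    refine ⟨by rw [thetaQ_of_not_mem D h1, thetaQ_of_not_mem D hyE, S.conj_point hkp, h2], fun _ => ?_⟩
    show D.J _ = D.J _ / _
    rw [S.conj_point hkp, h3]

theorem conjW (hw : Kernel a t E C.f p w) {y : G} (hy : y ∈ Q) :
    thetaQ D (w * y * w⁻¹) = thetaQ D y ∧ (y ∉ E → jQ D (w * y * w⁻¹) = D.η * jQ D y) := by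
  have hwp : w ∈ pairStab a t := hw.mem.1
  by_cases hyE : y ∈ E
  · refine ⟨?_, fun h => absurd hyE h⟩
    have h1 : y * w = w * y := Subgroup.mem_centralizer_iff.1 hw.mem.2 y hyE
    rw [← h1, mul_inv_cancel_right]
  · have h1 : w * y * w⁻¹ ∉ E := fun hh => hyE (by
      have := S.conj_memE (inv_mem hwp) hh
      simpa [mul_assoc] using this)
    obtain ⟨h2, h3⟩ := D.θ_w _ (S.not_mem_baseLine hy hyE)
    refine ⟨by rw [thetaQ_of_not_mem D h1, thetaQ_of_not_mem D hyE, S.conj_point hwp, h2], fun _ => ?_⟩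
    show D.J _ = _ * D.J _
    rw [S.conj_point hwp, h3]

theorem inv_eq_sq_mul {y : G} (hy : y ∈ Q) : y⁻¹ = y * y * y := by
  refine inv_eq_of_mul_eq_one_right ?_
  rw [show y * (y * y * y) = (y * y) * (y * y) by group]
  exact S.base.e_sq _ (S.base.q_sq y hy)

theorem coords_inv {y : G} (hy : y ∈ Q) (hyE : y ∉ E) :
    thetaQ D y⁻¹ = thetaQ D y + C.eps (y * y) ∧ jQ D y⁻¹ = jQ D y := by
  rw [S.inv_eq_sq_mul hy]
  exact ⟨by rw [S.thetaQ_mul D (S.base.q_sq y hy) hy, add_comm], S.jQ_mul D (S.base.q_sq y hy) hy hyE⟩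

theorem coords_swap {y g : G} (hy : y ∈ Q) (hyE : y ∉ E) (hgE : g ∉ E) (hgp : g • t • a = t • y • t • a) :
    thetaQ D g = (thetaQ D y)⁻¹ ∧ jQ D g = thetaQ D y * jQ D y := by
  obtain ⟨h1, h2⟩ := D.θ_t _ (S.not_mem_baseLine hy hyE)
  rw [thetaQ_of_not_mem D hgE, thetaQ_of_not_mem D hyE]
  show _ ∧ D.J _ = _ * D.J _
  rw [hgp]
  exact ⟨h1, h2⟩

/-- **The functional identity, in coordinates.** -/
theorem key_coords {y : G} (hy : y ∈ Q) (hyE : y ∉ E) {x : F} (hx : C.bar x = x) (hx0 : x ≠ 0) :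
    ∃ v ∈ Q, v ∉ E ∧ y * v ∉ E ∧ thetaQ D v * (1 + x * thetaQ D y⁻¹) = thetaQ D y⁻¹ ∧
      jQ D v = (1 + x * thetaQ D y⁻¹) * jQ D y ∧
      thetaQ D (y * v) * jQ D (y * v) = thetaQ D y * jQ D y := by
  obtain ⟨e, he, hex⟩ := C.eps_surj x hx
  have he1 : e ≠ 1 := fun e0 => by
    have h1 := C.eps_mul 1 (one_mem E) 1 (one_mem E)
    rw [mul_one, CharTwo.add_self_eq_zero, ← e0, hex] at h1
    exact hx0 h1
  have hyiE : y⁻¹ ∉ E := fun hh => hyE (inv_inv y ▸ inv_mem hh)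
  obtain ⟨g, hg, hgE, hgp⟩ := S.exists_swap hy hyE
  obtain ⟨f, hf, hfE, hfp⟩ := S.exists_swap (inv_mem hy) hyiE
  have hfe : f * e ∉ E := fun hh => hfE (by
    have := mul_mem hh (inv_mem he)
    rwa [mul_inv_cancel_right] at this)
  obtain ⟨v, hv, hvE, hvp⟩ := S.exists_swap (mul_mem hf (S.base.le he)) hfe
  obtain ⟨hyv, e', he', hpt⟩ := S.key_point hy hyE hg hgE hgp hf hfp he he1 hv hvp
  refine ⟨v, hv, hvE, hyv, ?_⟩
  obtain ⟨hθi, hJi⟩ := S.coords_inv D hy hyE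
  obtain ⟨hθf, hJf⟩ := S.coords_swap D (inv_mem hy) hyiE hfE hfp
  obtain ⟨hθv, hJv⟩ := S.coords_swap D (mul_mem hf (S.base.le he)) hfe hvE hvp
  rw [← (S.base.e_comm e he f hf).eq, S.thetaQ_mul D he hf, hex, hθf] at hθv hJv
  rw [S.jQ_mul D he hf hfE, hJf, hJi] at hJv
  have hX := S.thetaQ_ne D (inv_mem hy) hyiE
  set X := thetaQ D y⁻¹ with hXdef
  have hne : x + X⁻¹ ≠ 0 := fun e0 => S.thetaQ_ne D hv hvE (by rw [hθv, e0, inv_zero])
  refine ⟨?_, ?_, ?_⟩
  · rw [hθv, inv_mul_eq_iff_eq_mul₀ hne, add_mul, inv_mul_cancel₀ hX, add_comm]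
  · rw [hJv, ← mul_assoc, add_mul, inv_mul_cancel₀ hX, add_comm]
  · have hgQ : g * e' ∈ Q := mul_mem hg (S.base.le he')
    have hge : g * e' ∉ E := fun hh => hgE (by
      have := mul_mem hh (inv_mem he')
      rwa [mul_inv_cancel_right] at this)
    obtain ⟨-, h1⟩ := S.coords_swap D (mul_mem hy hv) hyv hge hpt.symm
    rw [← (S.base.e_comm e' he' g hg).eq, S.jQ_mul D he' hg hgE, (S.coords_swap D hy hyE hgE hgp).2] at h1
    exact h1.symm

end Cubic

end CfsgLib.Bender.Suzuki
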