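import Mathlib.FieldTheory.Finite.GaloisField
import Mathlib.GroupTheory.GroupAction.Quotient
import Mathlib.GroupTheory.PGroup
import Mathlib.RingTheory.LittleWedderburn

/-!
# A fixed point free operator with big order makes an elementary group a field

An automorphism of order `n` without fixed points in its powers, `n` dividing no `2 ^ j - 1` below
`|V| = 2 ^ d`, is the multiplication by an element of order `n` of the field with `2 ^ d` elements.
-/

set_option autoImplicit false
set_option linter.style.haveILetI false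

namespace CfsgLib.Bender.Suzuki

open scoped Pointwise

variable {V : Type*} [CommGroup V] [Finite V] {F : Type*} [Field F] [Finite F]

theorem exists_field_model {d n : ℕ} (hd : 0 < d) (hF : Nat.card F = 2 ^ d) (hV : Nat.card V = 2 ^ d)
    (α : MulAut V) (hpow : α ^ n = 1) (hn0 : 0 < n)
    (hfree : ∀ (i : ℕ) (v : V), v ≠ 1 → (α ^ i) v = v → n ∣ i)
    (hirr : ∀ j, 0 < j → j < d → ¬ n ∣ 2 ^ j - 1) :
    ∃ (U : V → F) (μ : F), Function.Bijective U ∧ (∀ v w, U (v * w) = U v + U w) ∧
      (∀ v, U (α v) = μ * U v) ∧ orderOf μ = n := by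
  classical
  obtain ⟨v₀, hv₀⟩ : ∃ v : V, v ≠ 1 := by
    haveI : Nontrivial V := Finite.one_lt_card_iff_nontrivial.1 (hV ▸ Nat.one_lt_two_pow hd.ne')
    exact exists_ne 1
  have hord : orderOf α = n := Nat.dvd_antisymm (orderOf_dvd_of_pow_eq_one hpow)
    (hfree _ v₀ hv₀ (by rw [pow_orderOf_eq_one]; rfl))
  -- no invariant subgroup
  have hirr' : ∀ W : Subgroup V, (∀ w ∈ W, α w ∈ W) → (∃ w ∈ W, w ≠ 1) → W = ⊤ := by
    intro W hW hne
    have hWp : ∀ (i : ℕ), ∀ w ∈ W, (α ^ i) w ∈ W := by
      intro i
      induction i with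
      | zero => exact fun w hw => hw
      | succ i ih => exact fun w hw => by rw [pow_succ', MulAut.mul_apply]; exact hW _ (ih w hw)
    let Z := Subgroup.zpowers α
    have hZW : ∀ g ∈ Z, ∀ w ∈ W, g w ∈ W := fun g hg w hw => by
      obtain ⟨i, rfl⟩ := (Submonoid.mem_powers_iff _ _).1 (mem_powers_iff_mem_zpowers.2 hg)
      exact hWp i w hw
    let X := {w : V // w ∈ W ∧ w ≠ 1}
    letI : MulAction Z X :=
      { smul := fun g w => ⟨(g : MulAut V) w.1, hZW g g.2 _ w.2.1, fun e => w.2.2 ((g : MulAut V).injective (e.trans (map_one _).symm))⟩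
        one_smul := fun w => rfl
        mul_smul := fun g k w => rfl }
    have hstab : ∀ w : X, MulAction.stabilizer Z w = ⊥ := fun w => (Subgroup.eq_bot_iff_forall _).2 fun g hg => by
      obtain ⟨i, hi⟩ := (Submonoid.mem_powers_iff _ _).1 (mem_powers_iff_mem_zpowers.2 g.2)
      have h1 : (g : MulAut V) w.1 = w.1 := congrArg Subtype.val hg
      rw [← hi] at h1
      obtain ⟨j, rfl⟩ := hfree i _ w.2.2 h1
      exact Subtype.ext (by rw [← hi, pow_mul, hpow, one_pow]; rfl)
    have hX : n ∣ Nat.card X := by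
      rw [Nat.card_congr (MulAction.selfEquivOrbitsQuotientProd hstab), Nat.card_prod, Nat.card_zpowers, hord]
      exact dvd_mul_left _ _
    have hXW : Nat.card X + 1 = Nat.card W := by
      rw [← Finite.card_option]
      exact Nat.card_congr ((Equiv.optionCongr
        ⟨fun x => ⟨⟨x.1, x.2.1⟩, fun e => x.2.2 (congrArg Subtype.val e)⟩,
          fun w => ⟨w.1.1, w.1.2, fun e => w.2 (Subtype.ext e)⟩, fun _ => rfl, fun _ => rfl⟩).trans
        (Equiv.optionSubtypeNe (1 : W)))
    obtain ⟨j, hj, hjW⟩ := (Nat.dvd_prime_pow Nat.prime_two).1 (hV ▸ Subgroup.card_subgroup_dvd_card W)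
    obtain ⟨w, hw, hw1⟩ := hne
    have hj0 : 0 < j := by
      refine Nat.pos_of_ne_zero fun e => hw1 ?_
      rw [e, pow_zero] at hjW
      exact congrArg Subtype.val ((Nat.card_eq_one_iff_unique.1 hjW).1.elim (⟨w, hw⟩ : W) 1)
    rcases hj.eq_or_lt with rfl | hlt
    · exact Subgroup.eq_top_of_card_eq _ (hjW.trans hV.symm)
    · refine absurd ?_ (hirr j hj0 hlt)
      rwa [← hjW, ← hXW, Nat.add_sub_cancel]
  -- the ring of the operator
  let a : AddMonoid.End (Additive V) := MonoidHom.toAdditive α.toMonoidHom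
  let R : Subring (AddMonoid.End (Additive V)) := Subring.closure {a}
  have ha : a ∈ R := Subring.subset_closure rfl
  have hca : ∀ r ∈ R, Commute r a := by
    intro r hr
    induction hr using Subring.closure_induction with
    | mem r hr => rw [Set.mem_singleton_iff] at hr; rw [hr]
    | zero => exact Commute.zero_left _
    | one => exact Commute.one_left _
    | add r s _ _ hr hs => exact hr.add_left hs
    | neg r _ hr => exact hr.neg_left
    | mul r s _ _ hr hs => exact hr.mul_left hs
  have hcomm : ∀ r ∈ R, ∀ s ∈ R, Commute r s := by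
    intro r hr s hs
    induction hs using Subring.closure_induction with
    | mem s hs => rw [Set.mem_singleton_iff] at hs; rw [hs]; exact hca r hr
    | zero => exact Commute.zero_right _
    | one => exact Commute.one_right _
    | add s t _ _ ht hu => exact ht.add_right hu
    | neg s _ ht => exact ht.neg_right
    | mul s t _ _ ht hu => exact ht.mul_right hu
  have hzero : ∀ r ∈ R, ∀ v : V, v ≠ 1 → r (Additive.ofMul v) = 0 → r = 0 := by
    intro r hr v hv hrv
    let W : Subgroup V :=
      { carrier := {w | r (Additive.ofMul w) = 0}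
        one_mem' := map_zero r
        mul_mem' := fun {x y} hx hy => by
          show r (Additive.ofMul x + Additive.ofMul y) = 0
          rw [map_add, hx, hy, add_zero]
        inv_mem' := fun {x} hx => by
          show r (- Additive.ofMul x) = 0
          rw [map_neg, hx, neg_zero] }
    have hW : ∀ w ∈ W, α w ∈ W := fun w hw => by
      show (r * a) (Additive.ofMul w) = 0
      rw [(hca r hr).eq]
      show a (r (Additive.ofMul w)) = 0
      rw [show r (Additive.ofMul w) = 0 from hw, map_zero]
    refine AddMonoidHom.ext fun w => ?_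
    exact show w.toMul ∈ W from (hirr' W hW ⟨v, hrv, hv⟩).symm ▸ Subgroup.mem_top _
  let ev : R → Additive V := fun r => (r : AddMonoid.End (Additive V)) (Additive.ofMul v₀)
  have hev : Function.Bijective ev := by
    refine ⟨fun r s hrs => Subtype.ext (sub_eq_zero.1 (hzero _ (sub_mem r.2 s.2) v₀ hv₀ ?_)), fun v => ?_⟩
    · show (r : AddMonoid.End (Additive V)) (Additive.ofMul v₀) - (s : AddMonoid.End (Additive V)) (Additive.ofMul v₀) = 0
      exact sub_eq_zero.2 hrs
    · let W : Subgroup V :=
        { carrier := {w | ∃ r : R, ev r = Additive.ofMul w}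
          one_mem' := ⟨0, rfl⟩
          mul_mem' := fun {x y} ⟨r, hr⟩ ⟨s, hs⟩ => ⟨r + s, by
            show ev r + ev s = Additive.ofMul x + Additive.ofMul y
            rw [hr, hs]⟩
          inv_mem' := fun {x} ⟨r, hr⟩ => ⟨-r, by
            show -ev r = - Additive.ofMul x
            rw [hr]⟩ }
      have hW : ∀ w ∈ W, α w ∈ W := fun w ⟨r, hr⟩ => ⟨⟨a, ha⟩ * r, congrArg a hr⟩
      obtain ⟨r, hr⟩ : v.toMul ∈ W := (hirr' W hW ⟨v₀, ⟨1, rfl⟩, hv₀⟩).symm ▸ Subgroup.mem_top _
      exact ⟨r, hr⟩
  haveI : Finite R := Finite.of_injective ev hev.1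
  haveI : Nontrivial R := ⟨1, 0, fun e => hv₀ (congrArg Additive.toMul (congrArg ev e))⟩
  letI : CommRing R := { (inferInstance : Ring R) with mul_comm := fun r s => Subtype.ext (hcomm r r.2 s s.2).eq }
  haveI : NoZeroDivisors R := ⟨fun {r s} hrs => or_iff_not_imp_right.2 fun hs => by
    have h1 : ev s ≠ 0 := fun e => hs (hev.1 (e.trans rfl))
    exact Subtype.ext (hzero _ r.2 (ev s).toMul (fun e => h1 (congrArg Additive.ofMul e)) (congrArg ev hrs))⟩
  haveI : IsDomain R := NoZeroDivisors.to_isDomain R
  letI := Fintype.ofFinite R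
  letI : Field R := Fintype.fieldOfDomain R
  letI := Fintype.ofFinite F
  let e : R ≃+* F := FiniteField.ringEquivOfCardEq (by
    rw [← Nat.card_eq_fintype_card, ← Nat.card_eq_fintype_card, hF, ← hV]
    exact Nat.card_eq_of_bijective ev hev)
  let evE : R ≃ Additive V := Equiv.ofBijective ev hev
  have hmul : ∀ v, evE.symm (Additive.ofMul (α v)) = ⟨a, ha⟩ * evE.symm (Additive.ofMul v) := fun v =>
    evE.injective (by
      rw [Equiv.apply_symm_apply]
      exact (congrArg a (evE.apply_symm_apply (Additive.ofMul v))).symm)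
  have hadd : ∀ x y : Additive V, evE.symm (x + y) = evE.symm x + evE.symm y := fun x y =>
    evE.injective (by
      rw [Equiv.apply_symm_apply]
      exact (congrArg₂ (· + ·) (evE.apply_symm_apply x) (evE.apply_symm_apply y)).symm)
  refine ⟨fun v => e (evE.symm (Additive.ofMul v)), e ⟨a, ha⟩,
    e.bijective.comp (evE.symm.bijective.comp Additive.ofMul.bijective), fun v w => ?_, fun v => ?_, ?_⟩
  · show e (evE.symm (Additive.ofMul v + Additive.ofMul w)) = _
    rw [hadd, map_add]
  · show e (evE.symm (Additive.ofMul (α v))) = _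
    rw [hmul, map_mul]
  · have hpowa : ∀ (i : ℕ) (v : V), ((⟨a, ha⟩ : R) ^ i : R).1 (Additive.ofMul v) = Additive.ofMul ((α ^ i) v) := by
      intro i
      induction i with
      | zero => intro v; rfl
      | succ i ih =>
        intro v
        rw [pow_succ']
        show a (((⟨a, ha⟩ : R) ^ i : R).1 (Additive.ofMul v)) = _
        rw [ih, pow_succ', MulAut.mul_apply]
        rfl
    refine Nat.dvd_antisymm (orderOf_dvd_of_pow_eq_one ?_) ?_
    · rw [← map_pow, show (⟨a, ha⟩ : R) ^ n = 1 from hev.1 (by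
        show ((⟨a, ha⟩ : R) ^ n : R).1 (Additive.ofMul v₀) = _
        rw [hpowa, hpow]; rfl), map_one]
    · refine hfree _ v₀ hv₀ ?_
      have h2 : (⟨a, ha⟩ : R) ^ orderOf (e ⟨a, ha⟩) = 1 := e.injective (by rw [map_pow, map_one, pow_orderOf_eq_one])
      have h1 := hpowa (orderOf (e ⟨a, ha⟩)) v₀
      rw [h2] at h1
      exact (congrArg Additive.toMul h1).symm

end CfsgLib.Bender.Suzuki
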