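import Cfsg.Agent.Lib.RootSub.FieldEnd
import Cfsg.Agent.Lib.PGroup.TransInvol.FieldEnd
import Mathlib.Algebra.Field.GeomSum

/-!
# The weights of a quadratic map commuting with a multiplier of odd order
-/

set_option autoImplicit false
set_option linter.style.haveILetI false

namespace CfsgLib.Bender.Suzuki

variable {F : Type*} [Field F] [Finite F] [CharP F 2]

/-- A quadratic map with `ν (μ x) = m * ν x`, `μ ^ n = 1`, `n` odd, only has monomials of weight `m`. -/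
theorem exists_weights {d : ℕ} (hF : Nat.card F = 2 ^ d) (ν : F → F)
    (hq : ∀ x y z : F, ν (x + y + z) + ν (x + y) + ν (x + z) + ν (y + z) + ν x + ν y + ν z = 0)
    {μ m : F} {n : ℕ} (hn : Odd n) (hμn : μ ^ n = 1) (hmn : m ^ n = 1) (hμ : ∀ x, ν (μ * x) = m * ν x) :
    ∃ (s : Finset ((F ≃+* F) × (F ≃+* F))) (c : (F ≃+* F) × (F ≃+* F) → F)
      (e : (F ≃+* F) × (F ≃+* F) → ℕ × ℕ),
      (∀ k ∈ s, (e k).1 < d ∧ (e k).2 < d ∧ μ ^ (2 ^ (e k).1 + 2 ^ (e k).2) = m) ∧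
      ∀ x, ν x = ∑ k ∈ s, c k * x ^ (2 ^ (e k).1 + 2 ^ (e k).2) := by
  classical
  haveI : Fact (Nat.Prime 2) := ⟨Nat.prime_two⟩
  letI : Algebra (ZMod 2) F := ZMod.algebra F 2
  letI := Fintype.ofFinite F
  haveI : Finite (F ≃+* F) := CfsgLib.RootSub.FieldEnd.finite_aut
  letI : Fintype (F ≃+* F) := Fintype.ofFinite _
  obtain ⟨c, hc⟩ := CfsgLib.RootSub.FieldEnd.exists_quadratic ν hq
  have hidx : ∀ σ : F ≃+* F, ∃ s < d, ∀ x, σ x = x ^ (2 ^ s) := fun σ =>
    CfsgLib.TransInvol.exists_eq_pow_of_algEquiv hF (AlgEquiv.ofRingEquiv (f := σ) (R := ZMod 2) (fun r => by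
      rw [show σ (algebraMap (ZMod 2) F r) = ((σ : F →+* F).comp (algebraMap (ZMod 2) F)) r from rfl,
        Subsingleton.elim ((σ : F →+* F).comp (algebraMap (ZMod 2) F)) (algebraMap (ZMod 2) F)]))
  choose ix hlt hix using hidx
  let e : (F ≃+* F) × (F ≃+* F) → ℕ × ℕ := fun k => (ix k.1, ix k.2)
  have hmon : ∀ k : (F ≃+* F) × (F ≃+* F), ∀ x, k.1 x * k.2 x = x ^ (2 ^ (e k).1 + 2 ^ (e k).2) := fun k x => by
    rw [hix, hix, pow_add]
  refine ⟨Finset.univ.filter fun k => μ ^ (2 ^ (e k).1 + 2 ^ (e k).2) = m, c, e,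
    fun k hk => ⟨hlt _, hlt _, (Finset.mem_filter.1 hk).2⟩, fun x => ?_⟩
  have hm0 : m ≠ 0 := fun e0 => by rw [e0, zero_pow hn.pos.ne'] at hmn; exact zero_ne_one hmn
  have hn1 : (n : F) = 1 := by
    obtain ⟨j, rfl⟩ := hn
    rw [Nat.cast_add, Nat.cast_mul, Nat.cast_ofNat, CharTwo.two_eq_zero, zero_mul, zero_add, Nat.cast_one]
  have hμi : ∀ (i : ℕ) (y : F), ν (μ ^ i * y) = m ^ i * ν y := by
    intro i
    induction i with
    | zero => intro y; simp
    | succ i ih => intro y; rw [pow_succ', mul_assoc, hμ, ih, pow_succ', mul_assoc]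
  calc ν x = ∑ i ∈ Finset.range n, (m ^ i)⁻¹ * ν (μ ^ i * x) := by
        rw [Finset.sum_congr rfl fun i _ => by rw [hμi, inv_mul_cancel_left₀ (pow_ne_zero i hm0)],
          Finset.sum_const, Finset.card_range, nsmul_eq_mul, hn1, one_mul]
    _ = ∑ i ∈ Finset.range n, ∑ k, c k * x ^ (2 ^ (e k).1 + 2 ^ (e k).2) *
          (μ ^ (2 ^ (e k).1 + 2 ^ (e k).2) / m) ^ i := by
        refine Finset.sum_congr rfl fun i _ => ?_
        rw [hc, Finset.mul_sum]
        refine Finset.sum_congr rfl fun k _ => ?_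
        rw [hmon, mul_pow, ← pow_mul, mul_comm i, pow_mul, div_pow, div_eq_mul_inv]
        ring
    _ = ∑ k, c k * x ^ (2 ^ (e k).1 + 2 ^ (e k).2) *
          ∑ i ∈ Finset.range n, (μ ^ (2 ^ (e k).1 + 2 ^ (e k).2) / m) ^ i := by
        rw [Finset.sum_comm]
        exact Finset.sum_congr rfl fun k _ => by rw [Finset.mul_sum]
    _ = _ := by
        rw [Finset.sum_filter]
        refine Finset.sum_congr rfl fun k _ => ?_
        split_ifs with hk
        · rw [hk, div_self hm0, Finset.sum_congr rfl fun i _ => one_pow i, Finset.sum_const, Finset.card_range,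
            nsmul_one, hn1, mul_one]
        · rw [geom_sum_eq (fun e1 => hk ((div_eq_one_iff_eq hm0).1 e1)), div_pow, ← pow_mul, mul_comm _ n, pow_mul,
            hμn, one_pow, hmn, div_one, sub_self, zero_div, mul_zero]

end CfsgLib.Bender.Suzuki
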