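import Cfsg.Agent.Lib.Bender.Suzuki.QModel.Chart
import Cfsg.Agent.Lib.Bender.Suzuki.QModel.FieldModel
import Cfsg.Agent.Lib.Bender.Suzuki.QModel.Weights
import Cfsg.Agent.Lib.RootSub.Setup2
import Mathlib.GroupTheory.QuotientGroup.Basic

/-!
# Suzuki's theorem: the field structure on `Q / E`

`c = k₀ w` is fixed point free of order `(q - 1) p` on `Q / E`, a field of order `q ^ 2`; the squares pick
its normalisation, or the second weight at `q = 8`.
-/

set_option autoImplicit false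
set_option linter.style.haveILetI false
set_option linter.unusedSectionVars false

namespace CfsgLib.Bender.Suzuki

open MulAction CfsgLib.RootSub.Setup
open scoped Pointwise

variable {G Ω : Type*} [Group G] [Finite G] [MulAction G Ω] {a : Ω} {t : G} {Q E K : Subgroup G} {s r : G}

/-- A class map of `Q` with the multipliers of `k₀` and `w`. -/
structure ClassMap (Q E : Subgroup G) (k₀ w : G) {F : Type} [Field F] (bar : F →+* F) (p : ℕ) (U : G → F)
    (ξ ζ : F) : Prop where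
  mul : ∀ y ∈ Q, ∀ v ∈ Q, U (y * v) = U y + U v
  zero_iff : ∀ y ∈ Q, U y = 0 ↔ y ∈ E
  surj : ∀ x : F, ∃ y ∈ Q, U y = x
  conj_k : ∀ y ∈ Q, U (k₀ * y * k₀⁻¹) = ξ * U y
  conj_w : ∀ y ∈ Q, U (w * y * w⁻¹) = ζ * U y
  ζ_order : orderOf ζ = p
  ζ_bar : bar ζ = ζ⁻¹

variable {F : Type} [Field F] [Finite F] [CharP F 2]

omit [Finite G] [Finite F] in
/-- The power of a class map by an automorphism. -/
theorem ClassMap.pow_two {k₀ w : G} {bar : F →+* F} {p : ℕ} {U : G → F} {ξ ζ : F} [Finite F]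
    (h : ClassMap Q E k₀ w bar p U ξ ζ) (hp : Odd p) (i : ℕ) (δ : F) (hδ : δ ≠ 0) :
    ClassMap Q E k₀ w bar p (fun y => δ * U y ^ 2 ^ i) (ξ ^ 2 ^ i) (ζ ^ 2 ^ i) := by
  have hinj : Function.Injective fun x : F => x ^ 2 ^ i := fun x y e => by
    have h1 : (x + y) ^ 2 ^ i = 0 := by
      rw [add_pow_char_pow, show x ^ 2 ^ i = y ^ 2 ^ i from e, CharTwo.add_self_eq_zero]
    exact CharTwo.add_eq_zero.1 ((pow_eq_zero_iff (pow_ne_zero i two_ne_zero)).1 h1)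
  have hbij := Finite.injective_iff_bijective.1 hinj
  refine ⟨fun y hy v hv => ?_, fun y hy => ?_, fun x => ?_, fun y hy => ?_, fun y hy => ?_, ?_, ?_⟩
  · rw [h.mul y hy v hv, add_pow_char_pow, mul_add]
  · rw [mul_eq_zero_iff_left hδ, pow_eq_zero_iff (pow_ne_zero i two_ne_zero), h.zero_iff y hy]
  · obtain ⟨x', hx'⟩ := hbij.2 (x / δ)
    obtain ⟨y, hy, rfl⟩ := h.surj x'
    exact ⟨y, hy, by show δ * U y ^ 2 ^ i = x; rw [show U y ^ 2 ^ i = x / δ from hx', mul_div_cancel₀ _ hδ]⟩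
  · rw [h.conj_k y hy, mul_pow]; ring
  · rw [h.conj_w y hy, mul_pow]; ring
  · rw [Nat.Coprime.orderOf_pow (by rw [h.ζ_order]; exact Nat.Coprime.pow_right i (Nat.coprime_two_right.2 hp)),
      h.ζ_order]
  · rw [map_pow, h.ζ_bar, inv_pow]

variable (S : Cubic a t Q E K s r) {C : EField E K s F} {p : ℕ} {w : G} (hw : Kernel a t E C.f p w)
  (D : Coords a t E K s C p w)

namespace Cubic

include S

theorem commute_w_K (hw : Kernel a t E C.f p w) {k : G} (hk : k ∈ K) : Commute w k := by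
  have hwp : w ∈ pairStab a t := hw.mem.1
  have hws : w * s = s * w := (Subgroup.mem_centralizer_iff.1 hw.mem.2 s S.base.s_mem).symm
  have hs : s ∈ Cfsg.involutionsIn (stabilizer G a : Set G) :=
    ⟨S.rank.le ((S.mem_E s).1 S.base.s_mem).1, S.base.s_ne, S.base.e_sq s S.base.s_mem⟩
  have hwt : t * w = w * t := ((commute_t_iff S.rank hs S.base.r_mem S.base.rel hwp).2 hws).symm
  have hkp : k ∈ pairStab a t := ((S.mem_K k).1 hk).1
  have hk' : w * k * w⁻¹ ∈ K := by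
    refine (S.mem_K _).2 ⟨mul_mem (mul_mem hwp hkp) (inv_mem hwp), ?_⟩
    rw [show t * (w * k * w⁻¹) * t⁻¹ = t * w * k * (t * w)⁻¹ by group, hwt,
      show w * t * k * (w * t)⁻¹ = w * (t * k * t⁻¹) * w⁻¹ by group, ((S.mem_K k).1 hk).2]
    group
  have hcs : ∀ e ∈ E, w * e * w⁻¹ = e := fun e he => by
    rw [← Subgroup.mem_centralizer_iff.1 hw.mem.2 e he, mul_inv_cancel_right]
  have he := S.base.k_e k hk s S.base.s_mem
  have h2 : w * k * w⁻¹ * s * (w * k * w⁻¹)⁻¹ = k * s * k⁻¹ := by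
    have hs' : w⁻¹ * s * w = s := by rw [mul_assoc, ← hws, inv_mul_cancel_left]
    calc w * k * w⁻¹ * s * (w * k * w⁻¹)⁻¹ = w * (k * (w⁻¹ * s * w) * k⁻¹) * w⁻¹ := by group
      _ = _ := by rw [hs', hcs _ he]
  have h3 := (S.base.reg _ he (fun e1 => S.base.s_ne (by
    rwa [mul_inv_eq_one, mul_eq_left] at e1))).unique ⟨hk', h2⟩ ⟨hk, rfl⟩
  exact mul_inv_eq_iff_eq_mul.1 h3

theorem card_K (hcard : Nat.card E = 2 ^ C.f) : Nat.card K + 1 = 2 ^ C.f := by
  classical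
  rw [← hcard, ← Finite.card_option]
  refine Nat.card_congr ((Equiv.optionCongr (Equiv.ofBijective
    (fun k : K => (⟨⟨k * s * (k : G)⁻¹, S.base.k_e k k.2 s S.base.s_mem⟩, fun e => S.base.s_ne (by
      have := congrArg Subtype.val e
      rwa [Subgroup.coe_one, mul_inv_eq_one, mul_eq_left] at this)⟩ : {e : E // e ≠ 1})) ⟨fun k k' e => ?_,
      fun e => ?_⟩)).trans (Equiv.optionSubtypeNe (1 : E)))
  · have h1 : (k : G) * s * (k : G)⁻¹ = k' * s * (k' : G)⁻¹ :=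
      congrArg (fun x : {e : E // e ≠ 1} => ((x.1 : E) : G)) e
    have he := S.base.k_e k k.2 s S.base.s_mem
    exact Subtype.ext ((S.base.reg _ he fun e1 => S.base.s_ne (by
      rwa [mul_inv_eq_one, mul_eq_left] at e1)).unique ⟨k.2, rfl⟩ ⟨k'.2, h1.symm⟩)
  · obtain ⟨k, ⟨hk, hke⟩, -⟩ := S.base.reg e.1 e.1.2 fun h => e.2 (Subtype.ext h)
    exact ⟨⟨k, hk⟩, Subtype.ext (Subtype.ext hke)⟩

/-- The facts on the generator of `K`. -/
theorem exists_gen : ∃ k₀ ∈ K, orderOf (C.lam k₀) = 2 ^ C.f - 1 ∧ k₀ ^ (2 ^ C.f - 1) = 1 ∧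
    (∀ k ∈ K, ∃ i : ℕ, k₀ ^ i = k) ∧ (∀ i : ℕ, C.lam (k₀ ^ i) = C.lam k₀ ^ i) ∧
    ∀ x : F, C.bar x = x → x ≠ 0 → ∃ i : ℕ, C.lam k₀ ^ i = x := by
  haveI := S.cyclic
  obtain ⟨⟨k₀, hk₀⟩, hgen⟩ := IsCyclic.exists_monoid_generator (α := K)
  have hpow : ∀ k ∈ K, ∃ i : ℕ, k₀ ^ i = k := fun k hk => by
    obtain ⟨i, hi⟩ := (Submonoid.mem_powers_iff _ _).1 (hgen ⟨k, hk⟩)
    exact ⟨i, congrArg Subtype.val hi⟩
  have hlam1 : C.lam 1 = 1 := by
    have h1 := C.lam_mul 1 (one_mem K) 1 (one_mem K)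
    rw [one_mul] at h1
    exact (mul_eq_left₀ (C.lam_ne 1 (one_mem K))).1 h1.symm
  have hlam : ∀ i : ℕ, C.lam (k₀ ^ i) = C.lam k₀ ^ i := by
    intro i
    induction i with
    | zero => rw [pow_zero, pow_zero, hlam1]
    | succ i ih => rw [pow_succ, C.lam_mul _ (pow_mem hk₀ i) _ hk₀, ih, pow_succ]
  have hK1 : Nat.card K = 2 ^ C.f - 1 := by have := S.card_K C.card_E; omega
  have hord : k₀ ^ (2 ^ C.f - 1) = 1 := by
    have h1 := pow_card_eq_one' (x := (⟨k₀, hk₀⟩ : K))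
    rw [hK1] at h1
    exact congrArg Subtype.val h1
  have hinj : ∀ i : ℕ, C.lam k₀ ^ i = 1 → k₀ ^ i = 1 := by
    intro i hi
    have hki := pow_mem hk₀ i
    have he := S.base.k_e _ hki s S.base.s_mem
    have h1 := C.eps_conj _ hki s S.base.s_mem
    rw [hlam, hi, one_pow, one_mul] at h1
    exact (S.base.reg s S.base.s_mem S.base.s_ne).unique ⟨hki, C.eps_inj he S.base.s_mem h1⟩
      ⟨one_mem K, by group⟩
  refine ⟨k₀, hk₀, Nat.dvd_antisymm (orderOf_dvd_of_pow_eq_one (by rw [← hlam, hord, hlam1])) ?_, hord, hpow, hlam,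
    fun x hx hx0 => ?_⟩
  · rw [← hK1]
    have h1 : orderOf (⟨k₀, hk₀⟩ : K) = Nat.card K := orderOf_eq_card_of_forall_mem_powers hgen
    rw [← h1]
    exact orderOf_dvd_of_pow_eq_one (Subtype.ext (hinj _ (pow_orderOf_eq_one _)))
  · obtain ⟨k, hk, rfl⟩ := C.lam_surj x hx hx0
    obtain ⟨i, rfl⟩ := hpow k hk
    exact ⟨i, (hlam i).symm⟩

include hw D

/-- **The field structure on the classes**, with the two possible weights of squares. -/
theorem exists_classMap {k₀ : G} (hk₀ : k₀ ∈ K) (hord : orderOf (C.lam k₀) = 2 ^ C.f - 1)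
    (hk₀n : k₀ ^ (2 ^ C.f - 1) = 1) (hlgen : ∀ x : F, C.bar x = x → x ≠ 0 → ∃ i : ℕ, C.lam k₀ ^ i = x) :
    (∃ (U : G → F) (ζ : F), ClassMap Q E k₀ w C.bar p U (C.lam k₀) ζ ∧
        ∀ y ∈ Q, C.eps (y * y) = C.bar (U y) * U y) ∨
      ∃ (U : G → F) (ξ ζ : F), ClassMap Q E k₀ w C.bar p U ξ ζ ∧ C.f = 3 ∧ p = 3 ∧ ξ ^ 3 = C.lam k₀ ^ 2 ∧
        C.bar ξ = ξ := by
  classical
  have hwp : w ∈ pairStab a t := hw.mem.1
  have hkp : k₀ ∈ pairStab a t := ((S.mem_K k₀).1 hk₀).1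
  have hcomm := S.commute_w_K hw hk₀
  have hpo : Odd p := hw.prime.odd_of_ne_two (by have := hw.three_le; omega)
  have hq1 : 3 ≤ 2 ^ C.f - 1 := by
    have : 2 ^ 2 ≤ 2 ^ C.f := Nat.pow_le_pow_right (by norm_num) C.two_le
    omega
  have hodd : Odd (2 ^ C.f - 1) := by
    rw [Nat.odd_iff]
    have : 2 ∣ 2 ^ C.f := dvd_pow_self 2 (by have := C.two_le; omega)
    omega
  have hcop : Nat.Coprime p (2 ^ C.f - 1) := (Nat.Prime.coprime_iff_not_dvd hw.prime).2 fun hd => by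
    have h1 := Nat.dvd_sub hw.dvd hd
    rw [show 2 ^ C.f + 1 - (2 ^ C.f - 1) = 2 by omega] at h1
    have := Nat.le_of_dvd (by norm_num) h1
    have := hw.three_le
    omega
  set c := k₀ * w with hc
  set n := (2 ^ C.f - 1) * p with hn
  have hwn : w ^ p = 1 := by rw [← hw.order]; exact pow_orderOf_eq_one w
  have hpowc : ∀ i : ℕ, c ^ i = k₀ ^ i * w ^ i := fun i => hcomm.symm.mul_pow i
  have hcn : c ^ n = 1 := by rw [hpowc, hn, pow_mul, hk₀n, mul_comm, pow_mul w, hwn]; simp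
  have hcp : ∀ i : ℕ, c ^ i ∈ pairStab a t := fun i => pow_mem (mul_mem hkp hwp) i
  have hcQ : ∀ (i : ℕ), ∀ y ∈ Q, c ^ i * y * (c ^ i)⁻¹ ∈ Q := fun i y hy => S.rank.conj_mem _ (hcp i).1 y hy
  -- the multiplier of `J`
  have hJ : ∀ (i : ℕ), ∀ y ∈ Q, y ∉ E → c ^ i * y * (c ^ i)⁻¹ ∉ E ∧
      jQ D (c ^ i * y * (c ^ i)⁻¹) = (D.η / C.lam k₀) ^ i * jQ D y := by
    intro i
    induction i with
    | zero => intro y _ hyE; simp [hyE]
    | succ i ih =>
      intro y hy hyE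
      obtain ⟨h1, h2⟩ := ih y hy hyE
      set v := c ^ i * y * (c ^ i)⁻¹ with hv
      have hvQ : v ∈ Q := hcQ i y hy
      have hwvE : w * v * w⁻¹ ∉ E := fun hh => h1 (by
        have := S.conj_memE (inv_mem hwp) hh
        simpa [mul_assoc] using this)
      have hwvQ : w * v * w⁻¹ ∈ Q := S.rank.conj_mem w hwp.1 v hvQ
      rw [show c ^ (i + 1) * y * (c ^ (i + 1))⁻¹ = k₀ * (w * v * w⁻¹) * k₀⁻¹ by
        rw [hv, pow_succ']; generalize c ^ i = cc; rw [hc]; group]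
      refine ⟨fun hh => hwvE (by
        have := S.conj_memE (inv_mem hkp) hh
        simpa [mul_assoc] using this), ?_⟩
      rw [(S.conjK D hk₀ hwvQ).2 hwvE, (S.conjW D hw hvQ).2 h1, h2, pow_succ]
      ring
  -- the quotient
  haveI hEn : (E.subgroupOf Q).Normal := ⟨fun e he g => by
    rw [Subgroup.mem_subgroupOf] at he ⊢
    show (g : G) * e * (g : G)⁻¹ ∈ E
    rw [← (S.base.e_comm _ he g g.2).eq, mul_inv_cancel_right]
    exact he⟩
  letI : CommGroup (Q ⧸ E.subgroupOf Q) := { (inferInstance : Group (Q ⧸ E.subgroupOf Q)) with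
    mul_comm := fun x y => by
      have hsq : ∀ x : Q ⧸ E.subgroupOf Q, x * x = 1 := fun x => by
        obtain ⟨g, rfl⟩ := QuotientGroup.mk_surjective x
        exact (QuotientGroup.eq_one_iff (g * g)).2 (Subgroup.mem_subgroupOf.2 (S.base.q_sq g g.2))
      calc x * y = (x * y)⁻¹ := (inv_eq_of_mul_eq_one_left (hsq _)).symm
        _ = y * x := by rw [mul_inv_rev, inv_eq_of_mul_eq_one_left (hsq y), inv_eq_of_mul_eq_one_left (hsq x)] }
  let β : MulAut Q :=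
    { toFun := fun y => ⟨c * y * c⁻¹, by simpa using hcQ 1 y y.2⟩
      invFun := fun y => ⟨c⁻¹ * y * c, by simpa using S.rank.conj_mem c⁻¹ (inv_mem (by simpa using (hcp 1).1)) y y.2⟩
      left_inv := fun y => Subtype.ext (show c⁻¹ * (c * (y : G) * c⁻¹) * c = y by group)
      right_inv := fun y => Subtype.ext (show c * (c⁻¹ * (y : G) * c) * c⁻¹ = y by group)
      map_mul' := fun y v => Subtype.ext (show c * ((y : G) * v) * c⁻¹ = c * y * c⁻¹ * (c * v * c⁻¹) by group) }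
  have hβE : (E.subgroupOf Q).map β.toMonoidHom = E.subgroupOf Q := by
    have hc1 : c ∈ pairStab a t := by simpa using hcp 1
    ext y
    constructor
    · rintro ⟨v, hv, rfl⟩
      exact Subgroup.mem_subgroupOf.2 (S.conj_memE hc1 (Subgroup.mem_subgroupOf.1 hv))
    · intro hy
      refine ⟨β.symm y, Subgroup.mem_subgroupOf.2 ?_, β.apply_symm_apply y⟩
      show c⁻¹ * (y : G) * c ∈ E
      simpa using S.conj_memE (inv_mem hc1) (Subgroup.mem_subgroupOf.1 hy)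
  let α : MulAut (Q ⧸ E.subgroupOf Q) := QuotientGroup.congr _ _ β hβE
  have hαi : ∀ (i : ℕ) (y : Q), (α ^ i) (QuotientGroup.mk y) =
      QuotientGroup.mk (⟨c ^ i * y * (c ^ i)⁻¹, hcQ i y y.2⟩ : Q) := by
    intro i
    induction i with
    | zero => intro y; simp
    | succ i ih =>
      intro y
      rw [pow_succ', MulAut.mul_apply, ih]
      show QuotientGroup.mk (β _) = _
      refine congrArg QuotientGroup.mk (Subtype.ext ?_)
      show c * (c ^ i * (y : G) * (c ^ i)⁻¹) * c⁻¹ = c ^ (i + 1) * y * (c ^ (i + 1))⁻¹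
      rw [pow_succ']; group
  have hV : Nat.card (Q ⧸ E.subgroupOf Q) = 2 ^ (2 * C.f) := by
    have h1 := (E.subgroupOf Q).card_eq_card_quotient_mul_card_subgroup
    rw [Nat.card_congr (Subgroup.subgroupOfEquivOfLe S.base.le).toEquiv, S.card_Q, C.card_E, pow_succ] at h1
    rw [← Nat.eq_of_mul_eq_mul_right (Nat.two_pow_pos C.f) h1, ← pow_mul, mul_comm]
  have hαn : α ^ n = 1 := MulEquiv.ext fun x => by
    obtain ⟨y, rfl⟩ := QuotientGroup.mk_surjective x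
    rw [hαi]
    exact congrArg QuotientGroup.mk (Subtype.ext (show c ^ n * (y : G) * (c ^ n)⁻¹ = y by rw [hcn]; simp))
  have hfree : ∀ (i : ℕ) (v : Q ⧸ E.subgroupOf Q), v ≠ 1 → (α ^ i) v = v → n ∣ i := by
    intro i v hv hfix
    obtain ⟨y, rfl⟩ := QuotientGroup.mk_surjective v
    have hyE : (y : G) ∉ E := fun hh => hv ((QuotientGroup.eq_one_iff y).2 (Subgroup.mem_subgroupOf.2 hh))
    rw [hαi, QuotientGroup.eq, Subgroup.mem_subgroupOf] at hfix
    obtain ⟨h1, h2⟩ := hJ i y y.2 hyE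
    have h3 : jQ D (c ^ i * y * (c ^ i)⁻¹) = jQ D y := by
      have he : ((c ^ i * y * (c ^ i)⁻¹)⁻¹ * y) ∈ E := hfix
      have h4 := S.jQ_mul D he (hcQ i y y.2) h1
      rwa [(S.base.e_comm _ he _ (hcQ i y y.2)).eq, mul_inv_cancel_left, eq_comm] at h4
    rw [h2, mul_eq_right₀ (S.jQ_ne D y.2 hyE), div_pow,
      div_eq_one_iff_eq (pow_ne_zero _ (C.lam_ne _ hk₀))] at h3
    have h5 := congrArg C.bar h3
    rw [map_pow, map_pow, D.η_bar, C.lam_fix _ hk₀, ← h3, inv_pow] at h5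
    have hη0 : D.η ≠ 0 := fun e => zero_ne_one (α := F) (by
      have := pow_orderOf_eq_one D.η
      rwa [D.η_order, e, zero_pow hw.prime.ne_zero] at this)
    have h6 : D.η ^ i * D.η ^ i = 1 := by
      nth_rewrite 1 [← h5]
      exact inv_mul_cancel₀ (pow_ne_zero i hη0)
    have h7 : D.η ^ i = 1 := by
      have : (D.η ^ i + 1) ^ 2 = 0 := by
        rw [add_sq, pow_two, h6, CharTwo.two_eq_zero]; ring_nf; simp [CharTwo.two_eq_zero]
      exact CharTwo.add_eq_zero.1 ((pow_eq_zero_iff two_ne_zero).1 this)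
    rw [h7] at h3
    refine Nat.Coprime.mul_dvd_of_dvd_of_dvd hcop.symm ?_ ?_
    · rw [← hord]; exact orderOf_dvd_of_pow_eq_one h3.symm
    · rw [← D.η_order]; exact orderOf_dvd_of_pow_eq_one h7
  have hF : Nat.card F = 2 ^ (2 * C.f) := by rw [C.card, ← pow_mul, mul_comm]
  obtain ⟨U₀, μ, hUbij, hUmul, hUα, hμn⟩ := exists_field_model (by have := C.two_le; omega) hF hV α hαn
    (Nat.mul_pos (by omega) hw.prime.pos) hfree hw.irreducible
  let U : G → F := fun y => if hy : y ∈ Q then U₀ (QuotientGroup.mk ⟨y, hy⟩) else 0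
  have hU : ∀ (y : G) (hy : y ∈ Q), U y = U₀ (QuotientGroup.mk ⟨y, hy⟩) := fun y hy => dif_pos hy
  have hU1 : U₀ 1 = 0 := by
    have h1 := hUmul 1 1
    rwa [one_mul, left_eq_add] at h1
  have hUc : ∀ (i : ℕ), ∀ y ∈ Q, U (c ^ i * y * (c ^ i)⁻¹) = μ ^ i * U y := by
    intro i
    induction i with
    | zero => intro y _; simp
    | succ i ih =>
      intro y hy
      rw [pow_succ' μ, mul_assoc μ, ← ih y hy, hU _ (hcQ i y hy), hU _ (hcQ (i + 1) y hy), ← hUα,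
        show α = α ^ 1 from (pow_one α).symm, hαi 1]
      refine congrArg (fun v : Q => U₀ (QuotientGroup.mk v)) (Subtype.ext ?_)
      show c ^ (i + 1) * y * (c ^ (i + 1))⁻¹ = c ^ 1 * (c ^ i * y * (c ^ i)⁻¹) * (c ^ 1)⁻¹
      rw [pow_succ', pow_one]; group
  -- the parts of `c`
  obtain ⟨e₁, -, he₁⟩ := Nat.exists_mul_mod_eq_one_of_coprime hcop (by omega)
  obtain ⟨e₂, -, he₂⟩ := Nat.exists_mul_mod_eq_one_of_coprime hcop.symm (by have := hw.three_le; omega)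
  set i₁ := p * e₁ with hi₁
  set i₂ := (2 ^ C.f - 1) * e₂ with hi₂
  have hk1 : k₀ ^ i₁ = k₀ := by
    conv_lhs => rw [← Nat.div_add_mod i₁ (2 ^ C.f - 1), he₁, pow_add, pow_mul, hk₀n, one_pow, one_mul, pow_one]
  have hc1 : c ^ i₁ = k₀ := by rw [hpowc, hk1, hi₁, pow_mul w, hwn, one_pow, mul_one]
  have hc2 : c ^ i₂ = w := by
    rw [hpowc, hi₂, pow_mul k₀, hk₀n, one_pow, one_mul, ← hi₂]
    conv_lhs => rw [← Nat.div_add_mod i₂ p, he₂, pow_add, pow_mul, hwn, one_pow, one_mul, pow_one]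
  have hμ2p : (μ ^ i₂) ^ p = 1 := by
    rw [← pow_mul, hi₂, mul_comm (2 ^ C.f - 1), mul_assoc, mul_comm, pow_mul, ← hn, ← hμn, pow_orderOf_eq_one,
      one_pow]
  have hζne : μ ^ i₂ ≠ 1 := fun e => by
    have h1 : n ∣ i₂ := hμn ▸ orderOf_dvd_of_pow_eq_one e
    have h2 : p ∣ i₂ := (dvd_mul_left p _).trans h1
    rw [Nat.dvd_iff_mod_eq_zero, he₂] at h2
    omega
  haveI := Fact.mk hw.prime
  have hζord : orderOf (μ ^ i₂) = p := orderOf_eq_prime hμ2p hζne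
  have hζbar : C.bar (μ ^ i₂) = (μ ^ i₂)⁻¹ := by
    refine eq_inv_of_mul_eq_one_left ?_
    rw [C.bar_apply, ← pow_succ]
    exact orderOf_dvd_iff_pow_eq_one.1 (hζord ▸ hw.dvd)
  have hξbar : C.bar (μ ^ i₁) = μ ^ i₁ := by
    rw [C.bar_apply, ← pow_mul, show i₁ * 2 ^ C.f = i₁ + n * e₁ by
      rw [hn, hi₁, show 2 ^ C.f = (2 ^ C.f - 1) + 1 by omega]
      simp only [Nat.add_sub_cancel]
      ring, pow_add, pow_mul μ n, ← hμn, pow_orderOf_eq_one, one_pow, mul_one]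
  have hCM : ClassMap Q E k₀ w C.bar p U (μ ^ i₁) (μ ^ i₂) :=
    { mul := fun y hy v hv => by
        rw [hU y hy, hU v hv, hU _ (mul_mem hy hv), ← hUmul]; rfl
      zero_iff := fun y hy => by
        rw [hU y hy, ← hU1, hUbij.1.eq_iff, QuotientGroup.eq_one_iff, Subgroup.mem_subgroupOf]
      surj := fun x => by
        obtain ⟨v, hv⟩ := hUbij.2 x
        obtain ⟨⟨y, hy⟩, rfl⟩ := QuotientGroup.mk_surjective v
        exact ⟨y, hy, (hU y hy).trans hv⟩
      conj_k := fun y hy => by rw [← hc1]; exact hUc i₁ y hy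
      conj_w := fun y hy => by rw [← hc2]; exact hUc i₂ y hy
      ζ_order := hζord
      ζ_bar := hζbar }
  -- the squares
  choose Y hYQ hY using hCM.surj
  let ν : F → F := fun x => C.eps (Y x * Y x)
  have hν : ∀ y ∈ Q, C.eps (y * y) = ν (U y) := by
    intro y hy
    have hd : y * (Y (U y))⁻¹ ∈ E := by
      refine (hCM.zero_iff _ (mul_mem hy (inv_mem (hYQ _)))).1 ?_
      have h1 := hCM.mul _ (mul_mem hy (inv_mem (hYQ (U y)))) _ (hYQ (U y))
      rwa [inv_mul_cancel_right, hY, right_eq_add] at h1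
    show _ = C.eps (Y (U y) * Y (U y))
    congr 1
    set e := y * (Y (U y))⁻¹ with he
    calc y * y = e * Y (U y) * (e * Y (U y)) := by rw [he, inv_mul_cancel_right]
      _ = e * (Y (U y) * e) * Y (U y) := by group
      _ = e * (e * Y (U y)) * Y (U y) := by rw [(S.base.e_comm e hd _ (hYQ _)).eq]
      _ = e * e * (Y (U y) * Y (U y)) := by group
      _ = _ := by rw [S.base.e_sq e hd, one_mul]
  have hνc : ∀ x, ν (μ * x) = C.lam k₀ ^ 2 * ν x := by
    intro x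
    have h1 := hUc 1 (Y x) (hYQ x)
    rw [pow_one, hY, pow_one] at h1
    rw [← h1, ← hν _ (by simpa using hcQ 1 _ (hYQ x))]
    show _ = C.lam k₀ ^ 2 * C.eps (Y x * Y x)
    have he := S.base.q_sq _ (hYQ x)
    have hwe : w * (Y x * Y x) * w⁻¹ = Y x * Y x := by
      rw [← Subgroup.mem_centralizer_iff.1 hw.mem.2 _ he, mul_inv_cancel_right]
    rw [show c * Y x * c⁻¹ * (c * Y x * c⁻¹) = k₀ * (w * (Y x * Y x) * w⁻¹) * k₀⁻¹ by rw [hc]; group, hwe,
      C.eps_conj k₀ hk₀ _ he]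
  have hquad : ∀ x y z : F, ν (x + y + z) + ν (x + y) + ν (x + z) + ν (y + z) + ν x + ν y + ν z = 0 := by
    intro x y z
    have hco : ∀ u ∈ Q, ∀ v ∈ Q, v * u * v⁻¹ * u⁻¹ ∈ E := fun u hu v hv => by
      have h0 := (hCM.zero_iff _ (mul_mem (mul_mem (mul_mem hv hu) (inv_mem hv)) (inv_mem hu))).1
      refine h0 ?_
      have hUi : ∀ u ∈ Q, U u⁻¹ = U u := fun u hu => by
        have h1 := hCM.mul u⁻¹ (inv_mem hu) u hu
        rw [inv_mul_cancel, (hCM.zero_iff 1 (one_mem Q)).2 (one_mem E)] at h1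
        exact CharTwo.add_eq_zero.1 h1.symm
      rw [hCM.mul _ (mul_mem (mul_mem hv hu) (inv_mem hv)) _ (inv_mem hu),
        hCM.mul _ (mul_mem hv hu) _ (inv_mem hv), hCM.mul _ hv _ hu, hUi v hv, hUi u hu]
      ring_nf
      simp [CharTwo.two_eq_zero]
    -- squares of products
    have hsq : ∀ u ∈ Q, ∀ v ∈ Q, C.eps (u * v * (u * v)) =
        C.eps (u * u) + C.eps (v * v) + C.eps (v * u * v⁻¹ * u⁻¹) := by
      intro u hu v hv
      have h1 : u * v * (u * v) = (v * u * v⁻¹ * u⁻¹) * (u * u) * (v * v) := by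
        calc u * v * (u * v) = u * ((v * u * v⁻¹ * u⁻¹) * (u * v)) * v := by group
          _ = u * ((u * v) * (v * u * v⁻¹ * u⁻¹)) * v := by rw [(S.base.e_comm _ (hco u hu v hv) _ (mul_mem hu hv)).eq]
          _ = (u * u) * (v * (v * u * v⁻¹ * u⁻¹)) * v := by group
          _ = (u * u) * ((v * u * v⁻¹ * u⁻¹) * v) * v := by rw [(S.base.e_comm _ (hco u hu v hv) _ hv).eq]
          _ = ((u * u) * (v * u * v⁻¹ * u⁻¹)) * (v * v) := by group
          _ = _ := by rw [(S.base.e_comm _ (S.base.q_sq u hu) _ (S.base.le (hco u hu v hv))).eq]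
      rw [h1, C.eps_mul _ (mul_mem (hco u hu v hv) (S.base.q_sq u hu)) _ (S.base.q_sq v hv),
        C.eps_mul _ (hco u hu v hv) _ (S.base.q_sq u hu)]
      ring
    have hu := hYQ x; have hv := hYQ y; have hz := hYQ z
    have eU : ∀ {u v : G}, u ∈ Q → v ∈ Q → ν (U u + U v) = C.eps (u * u) + C.eps (v * v) + C.eps (v * u * v⁻¹ * u⁻¹) :=
      fun hu hv => by rw [← hCM.mul _ hu _ hv, ← hν _ (mul_mem hu hv), hsq _ hu _ hv]
    have exy := eU hu hv
    have exz := eU hu hz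
    have eyz := eU hv hz
    have exyz := eU (mul_mem hu hv) hz
    rw [hY, hY] at exy exz eyz
    rw [hCM.mul _ hu _ hv, hY, hY, hY, hsq _ hu _ hv] at exyz
    have h4 : C.eps (Y z * (Y x * Y y) * (Y z)⁻¹ * (Y x * Y y)⁻¹) =
        C.eps (Y z * Y x * (Y z)⁻¹ * (Y x)⁻¹) + C.eps (Y z * Y y * (Y z)⁻¹ * (Y y)⁻¹) := by
      have h5 : Y z * (Y x * Y y) * (Y z)⁻¹ * (Y x * Y y)⁻¹ =
          (Y z * Y x * (Y z)⁻¹ * (Y x)⁻¹) * (Y z * Y y * (Y z)⁻¹ * (Y y)⁻¹) := by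
        calc Y z * (Y x * Y y) * (Y z)⁻¹ * (Y x * Y y)⁻¹
            = (Y z * Y x * (Y z)⁻¹ * (Y x)⁻¹) * (Y x * (Y z * Y y * (Y z)⁻¹ * (Y y)⁻¹) * (Y x)⁻¹) := by group
          _ = _ := by rw [← (S.base.e_comm _ (hco _ hv _ hz) _ hu).eq, mul_inv_cancel_right]
      rw [h5, C.eps_mul _ (hco _ hu _ hz) _ (hco _ hv _ hz)]
    rw [exyz, exy, exz, eyz, h4, show ν x = C.eps (Y x * Y x) from rfl, show ν y = C.eps (Y y * Y y) from rfl,
      show ν z = C.eps (Y z * Y z) from rfl]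
    ring_nf
    simp [CharTwo.two_eq_zero, show (4 : F) = 0 by linear_combination (2 : F) * CharTwo.two_eq_zero (R := F)]
  obtain ⟨σ, co, ex, hex, hsum⟩ := exists_weights hF ν hquad (hodd.mul hpo) (by rw [← hn, ← hμn, pow_orderOf_eq_one])
    (m := C.lam k₀ ^ 2) (by rw [← pow_mul, mul_comm, mul_assoc, mul_comm _ (p * 2), pow_mul, mul_comm p, ← pow_mul,
      mul_comm, pow_mul, ← hord, pow_orderOf_eq_one, one_pow]) hνc
  -- the weights
  have hwt : ∀ k ∈ σ, ∃ i : ℕ, (∀ x : F, x ^ (2 ^ (ex k).1 + 2 ^ (ex k).2) = (C.bar x * x) ^ 2 ^ i) ∧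
        (μ ^ i₁) ^ 2 ^ i = C.lam k₀ ∨
      C.f = 3 ∧ p = 3 ∧ (μ ^ i₁) ^ (3 * 2 ^ i) = C.lam k₀ ^ 2 := by
    intro k hk
    obtain ⟨hi, hj, hμe⟩ := hex k hk
    set m := 2 ^ (ex k).1 + 2 ^ (ex k).2 with hm
    have hpm : p ∣ m := by
      have h1 : (μ ^ i₂) ^ m = 1 := by
        rw [← pow_mul, mul_comm, pow_mul, hμe, ← pow_mul, hi₂, mul_comm 2, mul_assoc, pow_mul, ← hord,
          pow_orderOf_eq_one, one_pow]
      rw [← hζord]
      exact orderOf_dvd_of_pow_eq_one h1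
    have hξm : (μ ^ i₁) ^ m = C.lam k₀ ^ 2 := by
      have h1 : C.lam k₀ ^ i₁ = C.lam k₀ := by
        conv_lhs => rw [← Nat.div_add_mod i₁ (2 ^ C.f - 1), he₁, pow_add, pow_mul,
          show C.lam k₀ ^ (2 ^ C.f - 1) = 1 by rw [← hord, pow_orderOf_eq_one], one_pow, one_mul, pow_one]
      rw [← pow_mul, mul_comm, pow_mul, hμe, ← pow_mul, mul_comm, pow_mul, h1]
    have hfix6 : ∀ x : F, x ^ 2 ^ (2 * C.f) = x := fun x => by
      rw [← hF]
      letI := Fintype.ofFinite F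
      rw [Nat.card_eq_fintype_card]
      exact FiniteField.pow_card x
    -- order the exponents
    obtain ⟨i, d, hd, hid, hmid⟩ : ∃ i d, d < 2 * C.f ∧ i < 2 * C.f ∧ m = 2 ^ i * (1 + 2 ^ d) := by
      rcases le_total (ex k).1 (ex k).2 with h | h
      · exact ⟨(ex k).1, (ex k).2 - (ex k).1, by omega, hi, by
          rw [hm, mul_add, mul_one, ← pow_add, Nat.add_sub_cancel' h]⟩
      · exact ⟨(ex k).2, (ex k).1 - (ex k).2, by omega, hj, by
          rw [hm, mul_add, mul_one, ← pow_add, Nat.add_sub_cancel' h, add_comm]⟩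
    have hpd : p ∣ 1 + 2 ^ d := by
      refine (Nat.Coprime.dvd_mul_left ?_).1 (hmid ▸ hpm)
      exact Nat.Coprime.pow_right i (Nat.coprime_two_right.2 hpo)
    have hd0 : d ≠ 0 := fun e => by
      rw [e] at hpd
      have := Nat.le_of_dvd (by norm_num) hpd
      have := hw.three_le
      omega
    by_cases hdf : d = C.f
    · refine ⟨i, Or.inl ⟨fun x => ?_, ?_⟩⟩
      · rw [hmid, C.bar_apply, hdf, ← pow_succ, ← pow_mul]
        congr 1
        ring
      · have h1 : ((μ ^ i₁) ^ 2 ^ i) ^ 2 = C.lam k₀ ^ 2 := by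
          rw [← hξm, hmid, hdf, mul_comm (2 ^ i), pow_mul _ (1 + 2 ^ C.f), pow_add _ 1, pow_one,
            show (μ ^ i₁) ^ 2 ^ C.f = μ ^ i₁ by rw [← C.bar_apply, hξbar]]
          ring
        have h2 : ((μ ^ i₁) ^ 2 ^ i + C.lam k₀) ^ 2 = 0 := by
          rw [add_sq, h1, CharTwo.two_eq_zero (R := F)]; ring_nf; simp [CharTwo.two_eq_zero]
        exact CharTwo.add_eq_zero.1 ((pow_eq_zero_iff two_ne_zero).1 h2)
    · have hf3 : C.f = 3 := by
        by_contra hf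
        have hp2 : p ∣ 2 ^ (2 * d) - 1 := by
          have h1 : 2 ^ (2 * d) - 1 = (2 ^ d - 1) * (1 + 2 ^ d) := by
            rw [mul_comm 2 d, pow_mul, mul_comm, add_comm 1, ← Nat.sq_sub_sq, one_pow]
          rw [h1]
          exact hpd.mul_left _
        have hpf : p ∣ 2 ^ (2 * C.f) - 1 := by
          have h1 : 2 ^ (2 * C.f) - 1 = (2 ^ C.f + 1) * (2 ^ C.f - 1) := by
            rw [mul_comm 2 C.f, pow_mul, ← Nat.sq_sub_sq, one_pow]
          rw [h1]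
          exact hw.dvd.mul_right _
        have hg : p ∣ 2 ^ Nat.gcd (2 * d) (2 * C.f) - 1 := by
          rw [← Nat.pow_sub_one_gcd_pow_sub_one]
          exact Nat.dvd_gcd hp2 hpf
        have h2 : 0 < Nat.gcd (2 * d) (2 * C.f) := Nat.gcd_pos_of_pos_left _ (by omega)
        rcases (Nat.le_of_dvd (by omega) (Nat.gcd_dvd_right (2 * d) (2 * C.f))).eq_or_lt with he | hlt
        · have h3 : C.f ∣ d := Nat.dvd_of_mul_dvd_mul_left (by norm_num) (he ▸ Nat.gcd_dvd_left (2 * d) (2 * C.f))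
          obtain ⟨j, rfl⟩ := h3
          rcases j with _ | _ | j
          · simp at hd0
          · simp at hdf
          · have : C.f * 2 ≤ C.f * (j + 1 + 1) := Nat.mul_le_mul_left _ (by omega)
            omega
        · exact hw.primitive hf _ h2 hlt hg
      have hp3 : p = 3 := by
        have h1 : p ∣ 3 ^ 2 := by have := hw.dvd; rwa [hf3] at this
        exact (Nat.prime_dvd_prime_iff_eq hw.prime Nat.prime_three).1 (hw.prime.dvd_of_dvd_pow h1)
      rw [hf3] at hd hdf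
      rw [hp3] at hpd
      have h15 : d = 1 ∨ d = 5 := by
        interval_cases d <;> first | omega | norm_num at hpd
      rcases h15 with rfl | rfl
      · exact ⟨i, Or.inr ⟨hf3, hp3, by rw [← hξm, hmid]; ring_nf⟩⟩
      · refine ⟨i + 5, Or.inr ⟨hf3, hp3, ?_⟩⟩
        have h6 : ((μ ^ i₁) ^ 2 ^ i) ^ 64 = (μ ^ i₁) ^ 2 ^ i := by
          have := hfix6 ((μ ^ i₁) ^ 2 ^ i); rwa [hf3] at this
        rw [← hξm, hmid, show 3 * 2 ^ (i + 5) = 2 ^ i * 64 + 2 ^ i * 32 by ring, pow_add,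
          pow_mul _ (2 ^ i) 64, h6, show 2 ^ i * (1 + 2 ^ 5) = 2 ^ i + 2 ^ i * 32 by ring, pow_add]
  by_cases hexc : C.f = 3 ∧ p = 3 ∧ ∃ i : ℕ, (μ ^ i₁) ^ (3 * 2 ^ i) = C.lam k₀ ^ 2
  · obtain ⟨hf3, hp3, i, hi⟩ := hexc
    refine Or.inr ⟨_, _, _, hCM.pow_two hpo i 1 one_ne_zero, hf3, hp3, by rw [← hi]; ring, ?_⟩
    rw [map_pow, hξbar]
  · left
    have hwt' : ∀ k ∈ σ, ∃ i : ℕ, (∀ x : F, x ^ (2 ^ (ex k).1 + 2 ^ (ex k).2) = (C.bar x * x) ^ 2 ^ i) ∧
        (μ ^ i₁) ^ 2 ^ i = C.lam k₀ := fun k hk => by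
      obtain ⟨i, hi | ⟨h1, h2, h3⟩⟩ := hwt k hk
      · exact ⟨i, hi⟩
      · exact absurd ⟨h1, h2, i, h3⟩ hexc
    -- all weights give the same automorphism of the fixed field
    obtain ⟨y₁, hy₁, hy₁U⟩ := hCM.surj 1
    have hy₁E : y₁ ∉ E := fun hh => one_ne_zero (α := F) (by rw [← hy₁U, (hCM.zero_iff _ hy₁).2 hh])
    have hν1 : ν 1 ≠ 0 := by
      rw [← hy₁U, ← hν y₁ hy₁]
      intro e0
      have h1 := C.eps_mul 1 (one_mem E) 1 (one_mem E)
      rw [mul_one, CharTwo.add_self_eq_zero] at h1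
      exact hy₁E (S.base.q_invol y₁ hy₁ (C.eps_inj (S.base.q_sq y₁ hy₁) (one_mem E) (e0.trans h1.symm)))
    obtain ⟨k₁, hk₁⟩ : σ.Nonempty := Finset.nonempty_of_ne_empty fun e => hν1 (by rw [hsum, e, Finset.sum_empty])
    obtain ⟨i, -, hiξ⟩ := hwt' k₁ hk₁
    have hpinj : ∀ (j : ℕ) (x y : F), x ^ 2 ^ j = y ^ 2 ^ j → x = y := fun j x y e => by
      have h1 : (x + y) ^ 2 ^ j = 0 := by rw [add_pow_char_pow, e, CharTwo.add_self_eq_zero]
      exact CharTwo.add_eq_zero.1 ((pow_eq_zero_iff (pow_ne_zero j two_ne_zero)).1 h1)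
    have hsame : ∀ j : ℕ, (μ ^ i₁) ^ 2 ^ j = C.lam k₀ → ∀ x : F, C.bar x = x → x ^ 2 ^ j = x ^ 2 ^ i := by
      intro j hj x hx
      rcases eq_or_ne x 0 with rfl | hx0
      · rw [zero_pow (pow_ne_zero _ two_ne_zero), zero_pow (pow_ne_zero _ two_ne_zero)]
      obtain ⟨l, hl⟩ := hlgen (x ^ 2 ^ j) (by rw [map_pow, hx]) (pow_ne_zero _ hx0)
      have h1 : x = (μ ^ i₁) ^ l := hpinj j _ _ (by rw [← hl, ← hj, pow_right_comm])
      rw [h1, ← pow_mul, mul_comm, pow_mul, hj, ← pow_mul, mul_comm, pow_mul, hiξ]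
    have hνN : ∀ x, ν x = (∑ k ∈ σ, co k) * (C.bar x * x) ^ 2 ^ i := fun x => by
      rw [hsum, Finset.sum_mul]
      refine Finset.sum_congr rfl fun k hk => ?_
      obtain ⟨j, hj, hjξ⟩ := hwt' k hk
      rw [hj, hsame j hjξ _ (by rw [map_mul, C.bar_bar, mul_comm])]
    set cc := ∑ k ∈ σ, co k with hcc
    have hcc1 : cc = ν 1 := by rw [hνN, map_one, one_mul, one_pow, mul_one]
    have hccf : C.bar cc = cc := by
      rw [hcc1, ← hy₁U, ← hν y₁ hy₁]
      exact C.eps_fix _ (S.base.q_sq y₁ hy₁)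
    set δ := cc ^ 2 ^ (C.f - 1) with hδ
    have hδ2 : C.bar δ * δ = cc := by
      rw [hδ, map_pow, hccf, ← pow_two, ← pow_mul, ← pow_succ, Nat.sub_add_cancel (by have := C.two_le; omega),
        ← C.bar_apply, hccf]
    clear_value δ
    have hδ0 : δ ≠ 0 := fun e => hν1 (by rw [← hcc1, ← hδ2, e, mul_zero])
    refine ⟨fun y => δ * U y ^ 2 ^ i, (μ ^ i₂) ^ 2 ^ i, by rw [← hiξ]; exact hCM.pow_two hpo i δ hδ0, fun y hy => ?_⟩
    rw [hν y hy, hνN, map_mul, map_pow, mul_mul_mul_comm, hδ2, mul_pow]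

end Cubic

end CfsgLib.Bender.Suzuki
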