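import Cfsg.Agent.Lib.Bender.Suzuki.QModel.Coordinates
import Cfsg.Agent.Lib.Bender.Suzuki.IdentNormal
import Mathlib.RingTheory.RootsOfUnity.PrimitiveRoots

/-!
# Suzuki's theorem: the second weight at `q = 8` is impossible
-/

set_option autoImplicit false
set_option linter.style.haveILetI false
set_option linter.unusedSectionVars false

namespace CfsgLib.Bender.Suzuki

open MulAction CfsgLib.RootSub.Setup
open scoped Pointwise

variable {G Ω : Type*} [Group G] [Finite G] [MulAction G Ω] {a : Ω} {t : G} {Q E K : Subgroup G} {s r : G}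
  {F : Type} [Field F] [Finite F] [CharP F 2] (S : Cubic a t Q E K s r) {C : EField E K s F} {p : ℕ} {w : G}
  (hw : Kernel a t E C.f p w) (D : Coords a t E K s C p w)

namespace Cubic

include S hw D

/-- The iterated multipliers. -/
theorem classMap_iter {k₀ : G} (hk₀ : k₀ ∈ K) {U : G → F} {ξ ζ : F} (h : ClassMap Q E k₀ w C.bar p U ξ ζ)
    {y : G} (hy : y ∈ Q) (i j : ℕ) :
    k₀ ^ i * w ^ j * y * (k₀ ^ i * w ^ j)⁻¹ ∈ Q ∧
      U (k₀ ^ i * w ^ j * y * (k₀ ^ i * w ^ j)⁻¹) = ξ ^ i * ζ ^ j * U y ∧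
      (y ∉ E → k₀ ^ i * w ^ j * y * (k₀ ^ i * w ^ j)⁻¹ ∉ E ∧
        jQ D (k₀ ^ i * w ^ j * y * (k₀ ^ i * w ^ j)⁻¹) = D.η ^ j / C.lam k₀ ^ i * jQ D y) ∧
      thetaQ D (k₀ ^ i * w ^ j * y * (k₀ ^ i * w ^ j)⁻¹) = (C.lam k₀ ^ i) ^ 2 * thetaQ D y := by
  have hkp : k₀ ∈ pairStab a t := ((S.mem_K k₀).1 hk₀).1
  have hwp : w ∈ pairStab a t := hw.mem.1
  induction i with
  | zero =>
    induction j with
    | zero => simp [hy]
    | succ j ih =>
      rw [pow_zero, one_mul] at ih ⊢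
      obtain ⟨h1, h2, h3, h4⟩ := ih
      set v := w ^ j * y * (w ^ j)⁻¹
      have e : w ^ (j + 1) * y * (w ^ (j + 1))⁻¹ = w * v * w⁻¹ := by
        simp only [v, pow_succ']; generalize w ^ j = ww; group
      rw [e]
      refine ⟨S.rank.conj_mem w hwp.1 v h1, by rw [h.conj_w v h1, h2]; ring, fun hyE => ?_, ?_⟩
      · obtain ⟨h5, h6⟩ := h3 hyE
        refine ⟨fun hh => h5 (by
          have := S.conj_memE (inv_mem hwp) hh
          simpa [mul_assoc] using this), ?_⟩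
        rw [(S.conjW D hw h1).2 h5, h6]; ring
      · rw [(S.conjW D hw h1).1, h4]
  | succ i ih =>
    obtain ⟨h1, h2, h3, h4⟩ := ih
    set v := k₀ ^ i * w ^ j * y * (k₀ ^ i * w ^ j)⁻¹
    have e : k₀ ^ (i + 1) * w ^ j * y * (k₀ ^ (i + 1) * w ^ j)⁻¹ = k₀ * v * k₀⁻¹ := by
      simp only [v, pow_succ']; generalize k₀ ^ i = kk; group
    rw [e]
    refine ⟨S.rank.conj_mem k₀ hkp.1 v h1, by rw [h.conj_k v h1, h2]; ring, fun hyE => ?_, ?_⟩
    · obtain ⟨h5, h6⟩ := h3 hyE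
      refine ⟨fun hh => h5 (by
        have := S.conj_memE (inv_mem hkp) hh
        simpa [mul_assoc] using this), ?_⟩
      rw [(S.conjK D hk₀ h1).2 h5, h6, pow_succ]; ring
    · rw [(S.conjK D hk₀ h1).1, h4]; ring

omit hw D in
/-- Elements of one class differ by an element of `E`. -/
theorem classMap_diff {k₀ : G} {U : G → F} {ξ ζ : F} (h : ClassMap Q E k₀ w C.bar p U ξ ζ) {y v : G} (hy : y ∈ Q)
    (hv : v ∈ Q) (hU : U v = U y) : ∃ e ∈ E, v = e * y := by
  refine ⟨v * y⁻¹, (h.zero_iff _ (mul_mem hv (inv_mem hy))).1 ?_, by rw [inv_mul_cancel_right]⟩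
  have h1 := h.mul _ (mul_mem hv (inv_mem hy)) _ hy
  rwa [inv_mul_cancel_right, hU, right_eq_add] at h1

omit hw D in
theorem eps_one : C.eps 1 = 0 := by
  have h1 := C.eps_mul 1 (one_mem E) 1 (one_mem E)
  rwa [mul_one, CharTwo.add_self_eq_zero] at h1

/-- **No exceptional weight.** -/
theorem false_of_weight {k₀ : G} (hk₀ : k₀ ∈ K) (hord : orderOf (C.lam k₀) = 2 ^ C.f - 1) {U : G → F} {ξ ζ : F}
    (h : ClassMap Q E k₀ w C.bar p U ξ ζ) (hf : C.f = 3) (hp : p = 3) (hξ : ξ ^ 3 = C.lam k₀ ^ 2)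
    (hξf : C.bar ξ = ξ) : False := by
  classical
  rw [hf] at hord
  norm_num at hord
  have hl7 : C.lam k₀ ^ 7 = 1 := by rw [← hord]; exact pow_orderOf_eq_one _
  have hl0 : C.lam k₀ ≠ 0 := C.lam_ne _ hk₀
  have hξ0 : ξ ≠ 0 := fun e => by
    rw [e, zero_pow (by norm_num)] at hξ
    exact hl0 ((pow_eq_zero_iff two_ne_zero).1 hξ.symm)
  have hξ7 : ξ ^ 7 = 1 := by
    have h1 := C.bar_apply ξ
    rw [hξf, hf, show (2 : ℕ) ^ 3 = 7 + 1 from rfl, pow_succ] at h1
    exact (mul_eq_right₀ hξ0).1 h1.symm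
  have hξ1 : ξ ≠ 1 := fun e => by
    rw [e, one_pow] at hξ
    have h1 : orderOf (C.lam k₀) ∣ 2 := orderOf_dvd_of_pow_eq_one hξ.symm
    rw [hord] at h1
    norm_num at h1
  haveI : Fact (Nat.Prime 7) := ⟨by norm_num⟩
  have hξprim : IsPrimitiveRoot ξ 7 := by
    rw [← orderOf_eq_prime hξ7 hξ1]; exact IsPrimitiveRoot.orderOf ξ
  have hscal : ∀ x : F, x ≠ 0 → C.bar x = x → ∃ i : ℕ, ξ ^ i = x := fun x hx0 hx => by
    have h1 := C.bar_apply x
    rw [hx, hf, show (2 : ℕ) ^ 3 = 7 + 1 from rfl, pow_succ] at h1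
    obtain ⟨i, -, hi⟩ := hξprim.eq_pow_of_pow_eq_one ((mul_eq_right₀ hx0).1 h1.symm)
    exact ⟨i, hi⟩
  have hζ0 : ζ ≠ 0 := fun e => by
    have h1 := pow_orderOf_eq_one ζ
    rw [h.ζ_order, e, zero_pow hw.prime.ne_zero] at h1
    exact zero_ne_one h1
  have hζ1 : ζ ≠ 1 := fun e => hw.prime.ne_one (by rw [← h.ζ_order, e, orderOf_one])
  have hζN : C.bar ζ * ζ = 1 := by rw [h.ζ_bar, inv_mul_cancel₀ hζ0]
  have hζ3 : ζ ^ 3 = 1 := by rw [← hp, ← h.ζ_order]; exact pow_orderOf_eq_one ζ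
  have hη0 : D.η ≠ 0 := fun e => by
    have h1 := pow_orderOf_eq_one D.η
    rw [D.η_order, e, zero_pow hw.prime.ne_zero] at h1
    exact zero_ne_one h1
  have hηN : C.bar D.η * D.η = 1 := by rw [D.η_bar, inv_mul_cancel₀ hη0]
  -- representatives
  choose Y₀ hY₀Q hY₀ using h.surj
  let Y : F → G := fun u => if u = 0 then 1 else Y₀ u
  have hYQ : ∀ u, Y u ∈ Q := fun u => by
    simp only [Y]; split_ifs
    · exact one_mem Q
    · exact hY₀Q u
  have hY : ∀ u, U (Y u) = u := fun u => by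
    simp only [Y]; split_ifs with hu
    · rw [hu, (h.zero_iff 1 (one_mem Q)).2 (one_mem E)]
    · exact hY₀ u
  have hYE : ∀ u, u ≠ 0 → Y u ∉ E := fun u hu hh => hu (by rw [← hY u, (h.zero_iff _ (hYQ u)).2 hh])
  have hY0 : Y 0 = 1 := if_pos rfl
  let H : Set F := {x | ∃ i j : ℕ, x = ξ ^ i * ζ ^ j}
  let ν : F → F := fun u => C.eps (Y u * Y u)
  let τ : F → F := fun u => thetaQ D (Y u) + C.bar (thetaQ D (Y u))
  let J : F → F := fun u => jQ D (Y u)
  let Gc : F → F → F := fun u v => thetaQ D (Y u * Y v) + thetaQ D (Y u) + thetaQ D (Y v)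
  -- independence of representatives
  have hν : ∀ y ∈ Q, C.eps (y * y) = ν (U y) := fun y hy => by
    obtain ⟨e, he, hye⟩ := S.classMap_diff h (hYQ (U y)) hy (hY (U y)).symm
    show _ = C.eps (Y (U y) * Y (U y))
    generalize Y (U y) = v at hye hYQ ⊢
    subst hye
    congr 1
    have hvQ : v ∈ Q := by
      have := mul_mem (inv_mem (S.base.le he)) hy
      rwa [inv_mul_cancel_left] at this
    rw [show e * v * (e * v) = e * (v * e) * v by group, ← (S.base.e_comm e he v hvQ).eq,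
      show e * (e * v) * v = (e * e) * (v * v) by group, S.base.e_sq e he, one_mul]
  have hG : ∀ y ∈ Q, ∀ v ∈ Q, Gc (U y) (U v) = thetaQ D (y * v) + thetaQ D y + thetaQ D v := by
    intro y hy v hv
    obtain ⟨e, he, hye⟩ := S.classMap_diff h (hYQ (U y)) hy (hY (U y)).symm
    obtain ⟨d, hd, hvd⟩ := S.classMap_diff h (hYQ (U v)) hv (hY (U v)).symm
    have hy' := hYQ (U y)
    have hv' := hYQ (U v)
    show thetaQ D (Y (U y) * Y (U v)) + thetaQ D (Y (U y)) + thetaQ D (Y (U v)) = _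
    generalize Y (U y) = y' at hye hy' ⊢
    generalize Y (U v) = v' at hvd hv' ⊢
    subst hye hvd
    rw [show e * y' * (d * v') = e * (y' * d) * v' by group, ← (S.base.e_comm d hd y' hy').eq,
      show e * (d * y') * v' = (e * d) * (y' * v') by group, S.thetaQ_mul D (mul_mem he hd) (mul_mem hy' hv'),
      C.eps_mul e he d hd, S.thetaQ_mul D he hy', S.thetaQ_mul D hd hv']
    linear_combination (norm := (ring_nf; simp [CharTwo.two_eq_zero])) (0 : F) = 0
  have hJU : ∀ y ∈ Q, y ∉ E → jQ D y = J (U y) := fun y hy hyE => by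
    obtain ⟨e, he, hye⟩ := S.classMap_diff h (hYQ (U y)) hy (hY (U y)).symm
    have h1 := hYE (U y) fun e0 => hyE ((h.zero_iff y hy).1 e0)
    conv_lhs => rw [hye]
    exact S.jQ_mul D he (hYQ _) h1
  have hτU : ∀ y ∈ Q, thetaQ D y + C.bar (thetaQ D y) = τ (U y) := fun y hy => by
    obtain ⟨e, he, hye⟩ := S.classMap_diff h (hYQ (U y)) hy (hY (U y)).symm
    conv_lhs => rw [hye]
    rw [S.thetaQ_mul D he (hYQ _), map_add, C.eps_fix e he]
    show _ = thetaQ D (Y (U y)) + C.bar (thetaQ D (Y (U y)))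
    linear_combination (norm := (ring_nf; simp [CharTwo.two_eq_zero])) (0 : F) = 0
  have hJsm : ∀ (i j : ℕ) (u : F), u ≠ 0 → J (ξ ^ i * ζ ^ j * u) = D.η ^ j / C.lam k₀ ^ i * J u := fun i j u hu => by
    obtain ⟨h1, h2, h3, -⟩ := S.classMap_iter hw D hk₀ h (hYQ u) i j
    obtain ⟨h4, h5⟩ := h3 (hYE u hu)
    rw [hY] at h2
    rw [← h2, ← hJU _ h1 h4, h5]
  have hJ1 : J 1 ≠ 0 := S.jQ_ne D (hYQ 1) (hYE 1 one_ne_zero)
  have hπ : ∀ i j : ℕ, J (ξ ^ i * ζ ^ j) / J 1 = D.η ^ j / C.lam k₀ ^ i := fun i j => by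
    have := hJsm i j 1 one_ne_zero
    rw [mul_one] at this
    rw [this, mul_div_cancel_right₀ _ hJ1]
  have hfixp : ∀ (x : F), orderOf x = p → C.bar x = x⁻¹ → ∀ j : ℕ, C.bar (x ^ j) = x ^ j ↔ p ∣ j := by
    intro x hx hxb j
    have hx0 : x ≠ 0 := fun e => by
      have h1 := pow_orderOf_eq_one x
      rw [hx, e, zero_pow hw.prime.ne_zero] at h1
      exact zero_ne_one h1
    rw [← hx, orderOf_dvd_iff_pow_eq_one, map_pow, hxb, inv_pow]
    constructor
    · intro e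
      refine SuzukiOne.eq_one_of_sq ?_
      nth_rewrite 1 [← e]
      exact inv_mul_cancel₀ (pow_ne_zero j hx0)
    · intro e
      rw [e, inv_one]
  have hI : SuzukiOne.Ident C.bar H (fun x => J x / J 1) ν τ J Gc := by
    refine
      { invol := C.bar_bar
        H_ne := ?_
        mul_mem := ?_
        inv_mem := ?_
        scalars := fun x hx0 hx => by obtain ⟨i, hi⟩ := hscal x hx0 hx; exact ⟨i, 0, by simp [hi]⟩
        π_mul := ?_
        π_ne := ?_
        π_fix := ?_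
        J_ne := fun u hu => S.jQ_ne D (hYQ u) (hYE u hu)
        J_smul := ?_
        τ_zero := ?_
        τ_fix := fun u => by simp only [τ, map_add, C.bar_bar]; ring
        τ_norm := ⟨D.c₀, D.c₀_ne, fun u hu => S.trace D (hYQ u) (hYE u hu)⟩
        ν_fix := fun u => C.eps_fix _ (S.base.q_sq _ (hYQ u))
        ν_ne := ?_
        G_zero := ?_
        G_diag := ?_
        G_cocycle := ?_
        G_smul := ?_
        G_tr := ?_
        star := ?_ }
    · rintro _ ⟨i, j, rfl⟩; exact mul_ne_zero (pow_ne_zero _ hξ0) (pow_ne_zero _ hζ0)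
    · rintro _ ⟨i, j, rfl⟩ _ ⟨i', j', rfl⟩; exact ⟨i + i', j + j', by rw [pow_add, pow_add]; ring⟩
    · rintro _ ⟨i, j, rfl⟩
      refine ⟨6 * i, 2 * j, inv_eq_of_mul_eq_one_left ?_⟩
      calc ξ ^ (6 * i) * ζ ^ (2 * j) * (ξ ^ i * ζ ^ j) = (ξ ^ 7) ^ i * (ζ ^ 3) ^ j := by ring
        _ = 1 := by rw [hξ7, hζ3, one_pow, one_pow, one_mul]
    · rintro _ ⟨i, j, rfl⟩ _ ⟨i', j', rfl⟩
      show J _ / J 1 = J _ / J 1 * (J _ / J 1)
      rw [show ξ ^ i * ζ ^ j * (ξ ^ i' * ζ ^ j') = ξ ^ (i + i') * ζ ^ (j + j') by rw [pow_add, pow_add]; ring,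
        hπ, hπ, hπ, pow_add, pow_add, div_mul_div_comm]
    · rintro _ ⟨i, j, rfl⟩
      show J _ / J 1 ≠ 0
      rw [hπ]
      exact div_ne_zero (pow_ne_zero _ hη0) (pow_ne_zero _ hl0)
    · rintro _ ⟨i, j, rfl⟩
      show C.bar (J _ / J 1) = J _ / J 1 ↔ _
      rw [hπ, map_div₀, map_pow C.bar (C.lam k₀), C.lam_fix _ hk₀, div_left_inj' (pow_ne_zero _ hl0),
        hfixp D.η D.η_order D.η_bar, map_mul, map_pow C.bar ξ, hξf, mul_right_inj' (pow_ne_zero _ hξ0),
        hfixp ζ h.ζ_order h.ζ_bar]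
    · rintro _ ⟨i, j, rfl⟩ u hu
      show J _ = J _ / J 1 * J u
      rw [hπ, hJsm i j u hu]
    · show thetaQ D (Y 0) + C.bar (thetaQ D (Y 0)) = 0
      rw [hY0, thetaQ_of_mem D (one_mem E), S.eps_one, map_zero, add_zero]
    · intro u hu e0
      exact hYE u hu (S.base.q_invol _ (hYQ u) (C.eps_inj (S.base.q_sq _ (hYQ u)) (one_mem E)
        (e0.trans S.eps_one.symm)))
    · intro u
      show thetaQ D (Y 0 * Y u) + thetaQ D (Y 0) + thetaQ D (Y u) = 0
      rw [hY0, one_mul, thetaQ_of_mem D (one_mem E), S.eps_one, add_zero, CharTwo.add_self_eq_zero]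
    · intro u
      show thetaQ D (Y u * Y u) + thetaQ D (Y u) + thetaQ D (Y u) = ν u
      rw [add_assoc, CharTwo.add_self_eq_zero, add_zero, thetaQ_of_mem D (S.base.q_sq _ (hYQ u))]
    · intro u v x
      have e1 := hG _ (mul_mem (hYQ u) (hYQ v)) _ (hYQ x)
      have e2 := hG _ (hYQ u) _ (mul_mem (hYQ v) (hYQ x))
      have e3 := hG _ (hYQ u) _ (hYQ v)
      have e4 := hG _ (hYQ v) _ (hYQ x)
      rw [h.mul _ (hYQ u) _ (hYQ v), hY, hY, hY] at e1
      rw [h.mul _ (hYQ v) _ (hYQ x), hY, hY, hY, ← mul_assoc] at e2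
      rw [hY, hY] at e3 e4
      rw [e1, e2, e3, e4]
      linear_combination (norm := (ring_nf; simp [CharTwo.two_eq_zero])) (0 : F) = 0
    · rintro _ ⟨i, j, rfl⟩ u v
      obtain ⟨h1, h2, -, h3⟩ := S.classMap_iter hw D hk₀ h (hYQ u) i j
      obtain ⟨h1', h2', -, h3'⟩ := S.classMap_iter hw D hk₀ h (hYQ v) i j
      obtain ⟨-, -, -, h3''⟩ := S.classMap_iter hw D hk₀ h (mul_mem (hYQ u) (hYQ v)) i j
      rw [hY] at h2 h2'
      show Gc _ _ * (C.bar (J _ / J 1) * (J _ / J 1)) = Gc u v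
      rw [← h2, ← h2', hG _ h1 _ h1', h3, h3', hπ,
        show k₀ ^ i * w ^ j * Y u * (k₀ ^ i * w ^ j)⁻¹ * (k₀ ^ i * w ^ j * Y v * (k₀ ^ i * w ^ j)⁻¹) =
          k₀ ^ i * w ^ j * (Y u * Y v) * (k₀ ^ i * w ^ j)⁻¹ by
          generalize k₀ ^ i * w ^ j = g; group,
        h3'', map_div₀, map_pow, map_pow, C.lam_fix _ hk₀]
      show _ = thetaQ D (Y u * Y v) + thetaQ D (Y u) + thetaQ D (Y v)
      have h7 : C.bar D.η ^ j * D.η ^ j = 1 := by rw [← mul_pow, hηN, one_pow]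
      field_simp
      linear_combination (thetaQ D (Y u * Y v) + thetaQ D (Y u) + thetaQ D (Y v)) * h7
    · intro u v
      show Gc u v + C.bar (Gc u v) = _
      have e1 := hτU _ (mul_mem (hYQ u) (hYQ v))
      rw [h.mul _ (hYQ u) _ (hYQ v), hY, hY] at e1
      rw [← e1]
      simp only [Gc, τ, map_add]
      ring
    · -- the identity
      intro x hx hm u hu
      set π := J x / J 1 with hπx
      obtain ⟨i, j, hxe⟩ := hx
      have hπ' : π = D.η ^ j / C.lam k₀ ^ i := by rw [hπx, hxe, hπ]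
      clear_value π
      have hπm : C.bar π ≠ π := fun e => hm (by
        rw [hπ', map_div₀, map_pow C.bar (C.lam k₀), C.lam_fix _ hk₀, div_left_inj' (pow_ne_zero _ hl0),
          hfixp D.η D.η_order D.η_bar] at e
        rw [hxe, map_mul, map_pow C.bar ξ, hξf, (hfixp ζ h.ζ_order h.ζ_bar j).2 e])
      have hS : π + C.bar π ≠ 0 := fun e => hπm (CharTwo.add_eq_zero.1 e).symm
      have hπ1 : 1 + π ≠ 0 := fun e => hπm (by rw [← CharTwo.add_eq_zero.1 e, map_one])
      have hτ0 : τ u ≠ 0 := fun e => D.c₀_ne (by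
        have := S.trace D (hYQ u) (hYE u hu)
        rw [show thetaQ D (Y u) + C.bar (thetaQ D (Y u)) = τ u from rfl, e, zero_mul] at this
        exact this.symm)
      set X := (1 + π) * τ u / (π + C.bar π) with hX
      have hτf : C.bar (τ u) = τ u := by simp only [τ, map_add, C.bar_bar]; ring
      have hXtr : X + C.bar X = τ u := by
        rw [hX, map_div₀, map_mul, hτf, map_add, map_add, map_one, C.bar_bar, add_comm (C.bar π), ← add_div,
          div_eq_iff hS]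
        linear_combination (norm := (ring_nf; simp [CharTwo.two_eq_zero])) (0 : F) = 0
      -- the element with this coordinate
      set d := X + thetaQ D (Y u)⁻¹ with hd
      have hi := S.coords_inv D (hYQ u) (hYE u hu)
      have hνf : C.bar (ν u) = ν u := C.eps_fix _ (S.base.q_sq _ (hYQ u))
      have hdf : C.bar d = d := by
        rw [hd, hi.1, show C.eps (Y u * Y u) = ν u from rfl, map_add, map_add, hνf]
        refine CharTwo.add_eq_zero.1 ?_
        linear_combination (norm := (simp only [τ]; ring_nf; simp [CharTwo.two_eq_zero])) hXtr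
      obtain ⟨e, he, hed⟩ := C.eps_surj d hdf
      set y := e * Y u with hy
      have hyQ : y ∈ Q := mul_mem (S.base.le he) (hYQ u)
      have hyE : y ∉ E := fun hh => hYE u hu (by
        have := mul_mem (inv_mem he) hh
        rwa [hy, inv_mul_cancel_left] at this)
      have hUy : U y = u := by rw [hy, h.mul e (S.base.le he) _ (hYQ u), (h.zero_iff e (S.base.le he)).2 he, zero_add, hY]
      have hθy : thetaQ D y = X + ν u := by
        rw [hy, S.thetaQ_mul D he (hYQ u), hed, hd, hi.1]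
        show _ = X + C.eps (Y u * Y u)
        linear_combination (norm := (ring_nf; simp [CharTwo.two_eq_zero])) (0 : F) = 0
      have hθi : thetaQ D y⁻¹ = X := by
        rw [(S.coords_inv D hyQ hyE).1, hθy, hν y hyQ, hUy, CharTwo.add_cancel_right]
      set ε := (π + C.bar π) / τ u with hε
      have hεX : ε * X = 1 + π := by rw [hε, hX]; field_simp
      obtain ⟨v, hv, hvE, hyv, hθv, hJv, hkey⟩ := S.key_coords D hyQ hyE (x := ε)
        (by rw [hε, map_div₀, map_add, C.bar_bar, hτf, add_comm]) (div_ne_zero hS hτ0)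
      rw [hθi, hεX, ← add_assoc, CharTwo.add_self_eq_zero, zero_add] at hθv hJv
      have hJxu : jQ D v = J (x * u) := by
        rw [hJv, hJU y hyQ hyE, hUy, hxe, hJsm i j u hu, hπ']
      have hxu : x * u ≠ 0 := mul_ne_zero (by rw [hxe]; exact mul_ne_zero (pow_ne_zero _ hξ0) (pow_ne_zero _ hζ0)) hu
      obtain ⟨e', he', hve⟩ := S.jQ_inj D (hYQ _) (hYE _ hxu) hv hvE hJxu.symm
      have hUv : U v = x * u := by
        rw [hve, h.mul e' (S.base.le he') _ (hYQ _), (h.zero_iff e' (S.base.le he')).2 he', zero_add, hY]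
      have hθv' : thetaQ D v = X / π := by
        rw [eq_div_iff (fun e0 => hvE ?_), hθv]
        exact absurd e0 (by rw [hπ']; exact div_ne_zero (pow_ne_zero _ hη0) (pow_ne_zero _ hl0))
      have hGv := hG y hyQ v hv
      rw [hUy, hUv, hθy, hθv'] at hGv
      rw [hJU _ (mul_mem hyQ hv) hyv, h.mul y hyQ v hv, hUy, hUv, hJU y hyQ hyE, hUy, hθy] at hkey
      rw [← hkey, hGv]
      congr 1
      linear_combination (norm := (ring_nf; simp [CharTwo.two_eq_zero])) (0 : F) = 0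
  -- the contradiction
  have hω2 : ζ * ζ + ζ + 1 = 0 := (mul_eq_zero.1 (show (ζ + 1) * (ζ * ζ + ζ + 1) = 0 by
    linear_combination (norm := (ring_nf; simp [CharTwo.two_eq_zero])) hζ3)).resolve_left
      fun e => hζ1 (CharTwo.add_eq_zero.1 e)
  have hνi : ∀ (i j : ℕ) (u : F), ν (ξ ^ i * ζ ^ j * u) = (ξ ^ i) ^ 3 * ν u := by
    intro i j u
    obtain ⟨h1, h2, -, -⟩ := S.classMap_iter hw D hk₀ h (hYQ u) i j
    rw [hY] at h2
    rw [← h2, ← hν _ h1]
    set g := k₀ ^ i * w ^ j with hg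
    rw [show g * Y u * g⁻¹ * (g * Y u * g⁻¹) = g * (Y u * Y u) * g⁻¹ by group]
    have hsqE := S.base.q_sq _ (hYQ u)
    obtain ⟨-, -, -, h4⟩ := S.classMap_iter hw D hk₀ h (S.base.le hsqE) i j
    have hgE : g * (Y u * Y u) * g⁻¹ ∈ E :=
      S.conj_memE (mul_mem (pow_mem ((S.mem_K k₀).1 hk₀).1 i) (pow_mem hw.mem.1 j)) hsqE
    rw [← hg, thetaQ_of_mem D hgE, thetaQ_of_mem D hsqE] at h4
    show _ = (ξ ^ i) ^ 3 * C.eps (Y u * Y u)
    rw [h4, ← pow_mul, ← pow_mul, mul_comm i, pow_mul, ← hξ, ← pow_mul, mul_comm]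
    ring
  exact hI.false_of_cube (ω := ζ) (l := ξ) ⟨0, 1, by simp⟩ hζN hω2
    (fun u => by have := hνi 0 1 u; simpa using this)
    (fun x hx u => by
      rcases eq_or_ne x 0 with rfl | hx0
      · rw [zero_mul, zero_pow (by norm_num), zero_mul]
        show C.eps (Y 0 * Y 0) = 0
        rw [hY0, mul_one, S.eps_one]
      obtain ⟨i, rfl⟩ := hscal x hx0 hx
      have := hνi i 0 u
      simpa using this)
    hξf hξ0 hξ1 hξ7

end Cubic

end CfsgLib.Bender.Suzuki
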