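import Mathlib.Algebra.CharP.Two
import Mathlib.Algebra.Field.ZMod
import Mathlib.Algebra.Module.ZMod
import Mathlib.Algebra.Module.Projective
import Mathlib.LinearAlgebra.Basis.VectorSpace
import Mathlib.LinearAlgebra.FreeModule.Basic
import Mathlib.Tactic.LinearCombination

/-!
# An equivariant splitting of a cocycle without diagonal
-/

set_option autoImplicit false
set_option linter.style.haveILetI false

namespace CfsgLib.Bender.Suzuki

variable {F : Type*} [Field F] [CharP F 2]

/-- A two-cocycle of exponent two. -/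
structure FlatCocycle (f : F → F → F) : Prop where
  cocycle : ∀ u v w, f u v + f (u + v) w = f v w + f u (v + w)
  diag : ∀ u, f u u = 0
  zero : ∀ u, f 0 u = 0

namespace FlatCocycle

variable {f : F → F → F} (h : FlatCocycle f)
include h

theorem symm (u v : F) : f u v = f v u := by
  have h1 := h.cocycle u v (u + v)
  have h2 := h.cocycle v v u
  rw [h.diag, show v + (u + v) = u by rw [add_left_comm, CharTwo.add_self_eq_zero, add_zero], h.diag, add_zero,
    add_zero] at h1
  rw [h.diag, CharTwo.add_self_eq_zero, h.zero, add_zero, add_comm v u] at h2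
  rw [h1]
  exact (CharTwo.add_eq_zero.1 h2.symm).symm

theorem zero_right (u : F) : f u 0 = 0 := by rw [h.symm, h.zero]

end FlatCocycle

/-- The extension by a cocycle. -/
structure SplitExt {f : F → F → F} (h : FlatCocycle f) where
  /-- the central coordinate -/
  x : F
  /-- the class -/
  u : F

namespace SplitExt

variable {f : F → F → F} {h : FlatCocycle f}

theorem ext' {a b : SplitExt h} (h1 : a.x = b.x) (h2 : a.u = b.u) : a = b := by
  cases a; cases b; cases h1; cases h2; rfl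

instance : AddCommGroup (SplitExt h) where
  add a b := ⟨a.x + b.x + f a.u b.u, a.u + b.u⟩
  zero := ⟨0, 0⟩
  neg a := a
  nsmul := @nsmulRec _ ⟨⟨0, 0⟩⟩ ⟨fun a b => ⟨a.x + b.x + f a.u b.u, a.u + b.u⟩⟩
  zsmul := @zsmulRec _ ⟨⟨0, 0⟩⟩ ⟨fun a b => ⟨a.x + b.x + f a.u b.u, a.u + b.u⟩⟩ ⟨fun a => a⟩
    (@nsmulRec _ ⟨⟨0, 0⟩⟩ ⟨fun a b => ⟨a.x + b.x + f a.u b.u, a.u + b.u⟩⟩)
  add_assoc a b c := ext' (by
    show a.x + b.x + f a.u b.u + c.x + f (a.u + b.u) c.u = a.x + (b.x + c.x + f b.u c.u) + f a.u (b.u + c.u)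
    linear_combination h.cocycle a.u b.u c.u) (add_assoc a.u b.u c.u)
  zero_add a := ext' (by show (0 : F) + a.x + f 0 a.u = a.x; rw [h.zero, zero_add, add_zero]) (zero_add a.u)
  add_zero a := ext' (by show a.x + (0 : F) + f a.u 0 = a.x; rw [h.zero_right, add_zero, add_zero]) (add_zero a.u)
  add_comm a b := ext' (by show a.x + b.x + f a.u b.u = b.x + a.x + f b.u a.u; rw [h.symm, add_comm a.x])
    (add_comm a.u b.u)
  neg_add_cancel a := ext' (by
    show a.x + a.x + f a.u a.u = 0; rw [h.diag, CharTwo.add_self_eq_zero, add_zero]) (CharTwo.add_self_eq_zero a.u)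

theorem two (a : SplitExt h) : a + a = 0 :=
  ext' (by show a.x + a.x + f a.u a.u = 0; rw [h.diag, CharTwo.add_self_eq_zero, add_zero]) (CharTwo.add_self_eq_zero a.u)

end SplitExt

/-- **The splitting.** -/
theorem exists_split {f : F → F → F} (h : FlatCocycle f) :
    ∃ b : F → F, b 0 = 0 ∧ ∀ u v, f u v = b (u + v) + b u + b v := by
  classical
  haveI : Fact (Nat.Prime 2) := ⟨Nat.prime_two⟩
  letI : Module (ZMod 2) (SplitExt h) := AddCommGroup.zmodModule fun a => by
    rw [two_nsmul]; exact SplitExt.two a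
  letI : Module (ZMod 2) F := AddCommGroup.zmodModule fun a : F => by
    rw [two_nsmul]; exact CharTwo.add_self_eq_zero a
  let p : SplitExt h →ₗ[ZMod 2] F :=
    (AddMonoidHom.mk' (fun a : SplitExt h => a.u) fun _ _ => rfl).toZModLinearMap 2
  haveI : Module.Free (ZMod 2) F := Module.Free.of_divisionRing (ZMod 2) F
  haveI : Module.Projective (ZMod 2) F := Module.Projective.of_free
  obtain ⟨g, hg⟩ := p.exists_rightInverse_of_surjective
    (LinearMap.range_eq_top.2 fun u => ⟨⟨0, u⟩, rfl⟩)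
  have hgu : ∀ u, (g u).u = u := fun u => LinearMap.congr_fun hg u
  refine ⟨fun u => (g u).x, by show (g 0).x = 0; rw [map_zero]; rfl, fun u v => ?_⟩
  have h1 : (g (u + v)).x = (g u).x + (g v).x + f (g u).u (g v).u := congrArg SplitExt.x (map_add g u v)
  rw [hgu, hgu] at h1
  linear_combination (norm := (ring_nf; simp [CharTwo.two_eq_zero])) h1

/-- **The equivariant splitting.** -/
theorem exists_split_smul {f : F → F → F} (h : FlatCocycle f) {μ m : F} {n : ℕ} (hn : Odd n) (hμn : μ ^ n = 1)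
    (hmn : m ^ n = 1) (hf : ∀ u v, f (μ * u) (μ * v) = m * f u v) :
    ∃ b : F → F, b 0 = 0 ∧ (∀ u v, f u v = b (u + v) + b u + b v) ∧ ∀ u, b (μ * u) = m * b u := by
  obtain ⟨b, hb0, hb⟩ := exists_split h
  have hm0 : m ≠ 0 := fun e0 => by rw [e0, zero_pow hn.pos.ne'] at hmn; exact zero_ne_one hmn
  have hn1 : (n : F) = 1 := by
    obtain ⟨j, rfl⟩ := hn
    rw [Nat.cast_add, Nat.cast_mul, Nat.cast_ofNat, CharTwo.two_eq_zero, zero_mul, zero_add, Nat.cast_one]
  have hfi : ∀ (i : ℕ) u v, f (μ ^ i * u) (μ ^ i * v) = m ^ i * f u v := by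
    intro i
    induction i with
    | zero => intro u v; simp
    | succ i ih => intro u v; rw [pow_succ', mul_assoc, mul_assoc, hf, ih, pow_succ', mul_assoc]
  refine ⟨fun u => ∑ i ∈ Finset.range n, (m ^ i)⁻¹ * b (μ ^ i * u), by simp [hb0], fun u v => ?_, fun u => ?_⟩
  · rw [← Finset.sum_add_distrib, ← Finset.sum_add_distrib,
      Finset.sum_congr rfl fun i _ => show (m ^ i)⁻¹ * b (μ ^ i * (u + v)) + (m ^ i)⁻¹ * b (μ ^ i * u) +
        (m ^ i)⁻¹ * b (μ ^ i * v) = f u v by
        rw [← mul_add, ← mul_add, mul_add (μ ^ i), ← hb, hfi, inv_mul_cancel_left₀ (pow_ne_zero i hm0)],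
      Finset.sum_const, Finset.card_range, nsmul_eq_mul, hn1, one_mul]
  · let g : ℕ → F := fun i => (m ^ i)⁻¹ * b (μ ^ i * u)
    have hg : g n = g 0 := by simp [g, hμn, hmn]
    have hsum : ∑ i ∈ Finset.range n, g (i + 1) = ∑ i ∈ Finset.range n, g i := by
      have h1 := Finset.sum_range_succ' g n
      rw [Finset.sum_range_succ, hg] at h1
      exact add_right_cancel h1.symm
    show ∑ i ∈ Finset.range n, (m ^ i)⁻¹ * b (μ ^ i * (μ * u)) = m * ∑ i ∈ Finset.range n, g i
    rw [← hsum, Finset.mul_sum]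
    refine Finset.sum_congr rfl fun i _ => ?_
    show _ = m * ((m ^ (i + 1))⁻¹ * b (μ ^ (i + 1) * u))
    rw [← mul_assoc (μ ^ i), ← pow_succ, ← mul_assoc m, pow_succ m, mul_inv, mul_left_comm m, mul_inv_cancel₀ hm0,
      mul_one]

end CfsgLib.Bender.Suzuki
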