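import Cfsg.Agent.Lib.Bender.Suzuki.QModel.Coordinates
import Cfsg.Agent.Lib.Bender.Suzuki.QModel.Exceptional
import Cfsg.Agent.Lib.Bender.Suzuki.QModel.Split
import Cfsg.Agent.Lib.Bender.Suzuki.Identity
import Mathlib.Data.Nat.ChineseRemainder

/-!
# Suzuki's theorem: the shift of the Moebius coordinate

For a class map with `eps (y y) = N (U y)` there is a shift `b` of degree two in the real multipliers and
invariant under `ζ`, such that `y ↦ (U y, θ y + b (U y))` is a homomorphism of `Q` to the unital.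
-/

set_option autoImplicit false
set_option linter.style.haveILetI false
set_option linter.unusedSectionVars false

namespace CfsgLib.Bender.Suzuki

open MulAction CfsgLib.RootSub.Setup
open scoped Pointwise

variable {G Ω : Type*} [Group G] [Finite G] [MulAction G Ω] {a : Ω} {t : G} {Q E K : Subgroup G} {s r : G}
  {F : Type} [Field F] [Finite F] [CharP F 2] (S : Cubic a t Q E K s r) {C : EField E K s F} {p : ℕ} {w : G}
  (hw : Kernel a t E C.f p w) (D : Coords a t E K s C p w)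

/-- The shifted Moebius coordinate with the class. -/
noncomputable def pairQ (U : G → F) (b : F → F) (y : G) : F × F := (U y, thetaQ D y + b (U y))

/-- A shift turning `pairQ` into an isomorphism to the unital. -/
structure Shift (k₀ : G) (U : G → F) (ζ : F) (b : F → F) : Prop where
  zero : b 0 = 0
  real : ∀ (i : ℕ) (u : F), b (C.lam k₀ ^ i * u) = (C.lam k₀ ^ i) ^ 2 * b u
  inv : ∀ u, b (ζ * u) = b u
  mul : ∀ y ∈ Q, ∀ v ∈ Q, pairQ D U b (y * v) = Unital.pm C.bar (pairQ D U b y) (pairQ D U b v)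
  pts : ∀ y ∈ Q, pairQ D U b y ∈ Unital.Pts C.bar

namespace Cubic

include S hw D

/-- **The shift exists.** -/
theorem exists_shift {k₀ : G} (hk₀ : k₀ ∈ K) (hord : orderOf (C.lam k₀) = 2 ^ C.f - 1) {U : G → F} {ζ : F}
    (h : ClassMap Q E k₀ w C.bar p U (C.lam k₀) ζ) (hsq : ∀ y ∈ Q, C.eps (y * y) = C.bar (U y) * U y) :
    ∃ b : F → F, Shift (Q := Q) D k₀ U ζ b := by
  classical
  set l := C.lam k₀ with hl
  have hlfix : C.bar l = l := C.lam_fix _ hk₀
  have hpo : Odd p := hw.prime.odd_of_ne_two (by have := hw.three_le; omega)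
  have hq1 : 3 ≤ 2 ^ C.f - 1 := by
    have : 2 ^ 2 ≤ 2 ^ C.f := Nat.pow_le_pow_right (by norm_num) C.two_le
    omega
  have hodd : Odd (2 ^ C.f - 1) := by
    rw [Nat.odd_iff]
    have : 2 ∣ 2 ^ C.f := dvd_pow_self 2 (by have := C.two_le; omega)
    omega
  have hcop : Nat.Coprime (2 ^ C.f - 1) p := ((Nat.Prime.coprime_iff_not_dvd hw.prime).2 fun hd => by
    have h1 := Nat.dvd_sub hw.dvd hd
    rw [show 2 ^ C.f + 1 - (2 ^ C.f - 1) = 2 by omega] at h1
    have := Nat.le_of_dvd (by norm_num) h1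
    have := hw.three_le
    omega).symm
  have hζ0 : ζ ≠ 0 := fun e => by
    have h1 := pow_orderOf_eq_one ζ
    rw [h.ζ_order, e, zero_pow hw.prime.ne_zero] at h1
    exact zero_ne_one h1
  have hζ1 : ζ ≠ 1 := fun e => hw.prime.ne_one (by rw [← h.ζ_order, e, orderOf_one])
  have hζN : C.bar ζ * ζ = 1 := by rw [h.ζ_bar, inv_mul_cancel₀ hζ0]
  -- representatives
  choose Y₀ hY₀Q hY₀ using h.surj
  let Y : F → G := fun u => if u = 0 then 1 else Y₀ u
  have hYQ : ∀ u, Y u ∈ Q := fun u => by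
    simp only [Y]; split_ifs
    · exact one_mem Q
    · exact hY₀Q u
  have hY : ∀ u, U (Y u) = u := fun u => by
    simp only [Y]; split_ifs with hu
    · rw [hu, (h.zero_iff 1 (one_mem Q)).2 (one_mem E)]
    · exact hY₀ u
  have hY0 : Y 0 = 1 := if_pos rfl
  let Gc : F → F → F := fun u v => thetaQ D (Y u * Y v) + thetaQ D (Y u) + thetaQ D (Y v)
  have hG : ∀ y ∈ Q, ∀ v ∈ Q, Gc (U y) (U v) = thetaQ D (y * v) + thetaQ D y + thetaQ D v := by
    intro y hy v hv
    obtain ⟨e, he, hye⟩ := S.classMap_diff h (hYQ (U y)) hy (hY (U y)).symm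
    obtain ⟨d, hd, hvd⟩ := S.classMap_diff h (hYQ (U v)) hv (hY (U v)).symm
    have hy' := hYQ (U y)
    have hv' := hYQ (U v)
    show thetaQ D (Y (U y) * Y (U v)) + thetaQ D (Y (U y)) + thetaQ D (Y (U v)) = _
    generalize Y (U y) = y' at hye hy' ⊢
    generalize Y (U v) = v' at hvd hv' ⊢
    subst hye hvd
    rw [show e * y' * (d * v') = e * (y' * d) * v' by group, ← (S.base.e_comm d hd y' hy').eq,
      show e * (d * y') * v' = (e * d) * (y' * v') by group, S.thetaQ_mul D (mul_mem he hd) (mul_mem hy' hv'),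
      C.eps_mul e he d hd, S.thetaQ_mul D he hy', S.thetaQ_mul D hd hv']
    linear_combination (norm := (ring_nf; simp [CharTwo.two_eq_zero])) (0 : F) = 0
  have hflat : FlatCocycle fun u v => Gc u v + C.bar u * v := by
    refine ⟨fun u v x => ?_, fun u => ?_, fun u => ?_⟩
    · have e1 := hG _ (mul_mem (hYQ u) (hYQ v)) _ (hYQ x)
      have e2 := hG _ (hYQ u) _ (mul_mem (hYQ v) (hYQ x))
      have e3 := hG _ (hYQ u) _ (hYQ v)
      have e4 := hG _ (hYQ v) _ (hYQ x)
      rw [h.mul _ (hYQ u) _ (hYQ v), hY, hY, hY] at e1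
      rw [h.mul _ (hYQ v) _ (hYQ x), hY, hY, hY, ← mul_assoc] at e2
      rw [hY, hY] at e3 e4
      show Gc u v + _ + (Gc (u + v) x + _) = Gc v x + _ + (Gc u (v + x) + _)
      rw [e1, e2, e3, e4, map_add]
      linear_combination (norm := (ring_nf; simp [CharTwo.two_eq_zero])) (0 : F) = 0
    · show Gc u u + _ = 0
      have h1 : Gc u u = C.eps (Y u * Y u) := by
        show thetaQ D (Y u * Y u) + thetaQ D (Y u) + thetaQ D (Y u) = _
        rw [add_assoc, CharTwo.add_self_eq_zero, add_zero, thetaQ_of_mem D (S.base.q_sq _ (hYQ u))]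
      rw [h1, hsq _ (hYQ u), hY, CharTwo.add_self_eq_zero]
    · show thetaQ D (Y 0 * Y u) + thetaQ D (Y 0) + thetaQ D (Y u) + _ = 0
      rw [hY0, one_mul, thetaQ_of_mem D (one_mem E), S.eps_one, add_zero, CharTwo.add_self_eq_zero, map_zero,
        zero_mul, add_zero]
  -- the scaling
  set μ := l * ζ with hμ
  have hfμ : ∀ u v, Gc (μ * u) (μ * v) + C.bar (μ * u) * (μ * v) = l ^ 2 * (Gc u v + C.bar u * v) := by
    intro u v
    obtain ⟨h1, h2, -, h3⟩ := S.classMap_iter hw D hk₀ h (hYQ u) 1 1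
    obtain ⟨h1', h2', -, h3'⟩ := S.classMap_iter hw D hk₀ h (hYQ v) 1 1
    obtain ⟨-, -, -, h3''⟩ := S.classMap_iter hw D hk₀ h (mul_mem (hYQ u) (hYQ v)) 1 1
    simp only [pow_one, hY, ← hl, ← hμ] at h1 h1' h2 h2' h3 h3' h3''
    rw [← h2, ← h2', hG _ h1 _ h1', h3, h3',
      show k₀ * w * Y u * (k₀ * w)⁻¹ * (k₀ * w * Y v * (k₀ * w)⁻¹) = k₀ * w * (Y u * Y v) * (k₀ * w)⁻¹ by group,
      h3'', h2, h2']
    show _ = l ^ 2 * (thetaQ D (Y u * Y v) + thetaQ D (Y u) + thetaQ D (Y v) + _)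
    rw [hμ, map_mul, map_mul, hlfix]
    linear_combination (l ^ 2 * C.bar u * v) * hζN
  have hln : l ^ (2 ^ C.f - 1) = 1 := by rw [← hord]; exact pow_orderOf_eq_one l
  have hζn : ζ ^ p = 1 := by rw [← h.ζ_order]; exact pow_orderOf_eq_one ζ
  obtain ⟨b, hb0, hb, hbμ⟩ := exists_split_smul hflat (μ := μ) (m := l ^ 2) (n := (2 ^ C.f - 1) * p)
    (hodd.mul hpo)
    (by rw [hμ, mul_pow, pow_mul l, hln, mul_comm (2 ^ C.f - 1) p, pow_mul ζ, hζn, one_pow, one_pow, one_mul])
    (by rw [← pow_mul, mul_comm 2, pow_mul, pow_mul l, hln, one_pow, one_pow]) hfμ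
  have hbμi : ∀ (i : ℕ) u, b (μ ^ i * u) = (l ^ i) ^ 2 * b u := by
    intro i
    induction i with
    | zero => intro u; simp
    | succ i ih => intro u; rw [pow_succ', mul_assoc, hbμ, ih]; ring
  obtain ⟨i₁, hi₁, hi₁'⟩ := Nat.chineseRemainder hcop 1 0
  obtain ⟨j₁, hj₁, hj₁'⟩ := Nat.chineseRemainder hcop 0 1
  have hmod : ∀ (x : F) (i j : ℕ), i ≡ j [MOD orderOf x] → x ^ i = x ^ j := fun x i j e => by
    rw [← pow_mod_orderOf, e, pow_mod_orderOf]
  rw [← hord] at hi₁ hj₁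
  rw [← h.ζ_order] at hi₁' hj₁'
  replace hi₁ := (hmod l _ _ hi₁).trans (pow_one l)
  replace hi₁' := (hmod ζ _ _ hi₁').trans (pow_zero ζ)
  replace hj₁ := (hmod l _ _ hj₁).trans (pow_zero l)
  replace hj₁' := (hmod ζ _ _ hj₁').trans (pow_one ζ)
  have hbl : ∀ u, b (l * u) = l ^ 2 * b u := fun u => by
    have := hbμi i₁ u
    rwa [hμ, mul_pow, hi₁, hi₁', mul_one] at this
  have hbζ : ∀ u, b (ζ * u) = b u := fun u => by
    have := hbμi j₁ u
    rwa [hμ, mul_pow, hj₁, hj₁', one_mul, one_pow, one_mul] at this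
  have hmul : ∀ y ∈ Q, ∀ v ∈ Q, pairQ D U b (y * v) = Unital.pm C.bar (pairQ D U b y) (pairQ D U b v) := by
    intro y hy v hv
    refine Prod.ext (h.mul y hy v hv) ?_
    show thetaQ D (y * v) + b (U (y * v)) = _ + _ + C.bar (U y) * U v
    rw [h.mul y hy v hv]
    have e1 : Gc (U y) (U v) + C.bar (U y) * U v = _ := hb (U y) (U v)
    rw [hG y hy v hv] at e1
    show _ = thetaQ D y + b (U y) + (thetaQ D v + b (U v)) + _
    linear_combination (norm := (ring_nf; simp [CharTwo.two_eq_zero])) e1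
  refine ⟨b, hb0, fun i u => ?_, hbζ, hmul, fun y hy => ?_⟩
  · induction i generalizing u with
    | zero => simp
    | succ i ih => rw [pow_succ, mul_assoc, ih, hbl]; ring
  -- the trace
  let L : G → F := fun y => thetaQ D y + b (U y) + C.bar (thetaQ D y + b (U y)) + C.bar (U y) * U y
  have hL : ∀ y ∈ Q, ∀ v ∈ Q, L (y * v) = L y + L v := by
    intro y hy v hv
    have e1 : thetaQ D (y * v) + b (U (y * v)) = _ := congrArg Prod.snd (hmul y hy v hv)
    simp only [Unital.pm, pairQ] at e1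
    show thetaQ D (y * v) + b (U (y * v)) + C.bar (thetaQ D (y * v) + b (U (y * v))) +
      C.bar (U (y * v)) * U (y * v) = _
    rw [e1, h.mul y hy v hv]
    simp only [L, map_add, map_mul, C.bar_bar]
    linear_combination (norm := (ring_nf; simp [CharTwo.two_eq_zero])) (0 : F) = 0
  have hLE : ∀ e ∈ E, L e = 0 := fun e he => by
    show thetaQ D e + b (U e) + C.bar (thetaQ D e + b (U e)) + C.bar (U e) * U e = 0
    rw [(h.zero_iff e (S.base.le he)).2 he, hb0, add_zero, thetaQ_of_mem D he, C.eps_fix e he,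
      CharTwo.add_self_eq_zero, mul_zero, add_zero]
  have hLU : ∀ y ∈ Q, L y = L (Y (U y)) := fun y hy => by
    obtain ⟨e, he, hye⟩ := S.classMap_diff h (hYQ (U y)) hy (hY (U y)).symm
    conv_lhs => rw [hye]
    rw [hL e (S.base.le he) _ (hYQ _), hLE e he, zero_add]
  have hzero := Unital.eq_zero_of_invariant (fun u => L (Y u)) (fun u v => by
    have h1 := hLU _ (mul_mem (hYQ u) (hYQ v))
    rw [h.mul _ (hYQ u) _ (hYQ v), hY, hY, hL _ (hYQ u) _ (hYQ v)] at h1
    exact h1.symm) hζ1 (fun u => by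
    have hq : w * Y u * w⁻¹ ∈ Q := S.rank.conj_mem w hw.mem.1.1 _ (hYQ u)
    have h1 := hLU _ hq
    rw [h.conj_w _ (hYQ u), hY] at h1
    show L (Y (ζ * u)) = L (Y u)
    rw [← h1]
    show thetaQ D _ + b (U (w * Y u * w⁻¹)) + C.bar (thetaQ D _ + b (U (w * Y u * w⁻¹))) +
      C.bar (U (w * Y u * w⁻¹)) * U (w * Y u * w⁻¹) = _
    rw [h.conj_w _ (hYQ u), (S.conjW D hw (hYQ u)).1, hbζ, map_mul C.bar ζ]
    show _ = thetaQ D (Y u) + b (U (Y u)) + C.bar (thetaQ D (Y u) + b (U (Y u))) + C.bar (U (Y u)) * U (Y u)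
    linear_combination (C.bar (U (Y u)) * U (Y u)) * hζN) (U y)
  rw [← hLU y hy] at hzero
  exact CharTwo.add_eq_zero.1 hzero

end Cubic

end CfsgLib.Bender.Suzuki
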